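import Groth.Agent.CentralLift.Main
import Groth.Agent.FormalHomLib.FiniteLim
import Groth.Agent.S0348
import Groth.Agent.S7517
/-!
Central homomorphisms from finite smooth groups of multiplicative type over a complete Noetherian
local ring are determined by, and exist from, the closed fibre.
-/

set_option autoImplicit false
set_option backward.isDefEq.respectTransparency false
set_option backward.isDefEq.respectTransparency.types false
set_option linter.style.haveILetI false
set_option linter.unusedSectionVars false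
set_option maxHeartbeats 800000
set_option synthInstance.maxHeartbeats 400000

universe u

open CategoryTheory CategoryTheory.Limits MonoidalCategory CartesianMonoidalCategory MonObj AlgebraicGeometry

noncomputable section

namespace Groth.Agent.CentralLift

variable {A : Type u} [CommRing A] [IsLocalRing A]

/-- The inclusion of the closed point. -/
abbrev qcl (A : Type u) [CommRing A] [IsLocalRing A] :
    Spec (CommRingCat.of (A ⧸ IsLocalRing.maximalIdeal A)) ⟶ Spec (CommRingCat.of A) :=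
  Spec.map (CommRingCat.ofHom (Ideal.Quotient.mk (IsLocalRing.maximalIdeal A)))

/-- An open subset containing the closed fibre of a closed morphism is everything. -/
theorem top_of_closed_fibre {X : Scheme.{u}} (π : X ⟶ (Spec (CommRingCat.of A))) [UniversallyClosed π] (O : X.Opens)
    (h : Set.range (pullback.fst π (qcl A)) ⊆ O) : O = ⊤ := by
  ext1
  refine Set.eq_univ_of_forall fun p => ?_
  by_contra hp
  have hc : IsClosed (π '' (O : Set X)ᶜ) := π.isClosedMap _ O.isOpen.isClosed_compl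
  obtain ⟨p', hp', hp'c⟩ : (IsLocalRing.closedPoint A : (Spec (CommRingCat.of A))) ∈ π '' (O : Set X)ᶜ :=
    hc.stableUnderSpecialization (FormalHomLib.specializes_closed (π p)) ⟨p, hp, rfl⟩
  refine hp' (h ?_)
  rw [Scheme.Pullback.range_fst]
  refine Set.mem_preimage.2 (hp'c ▸ ?_)
  have : (IsLocalRing.closedPoint A : PrimeSpectrum A) ∈
      Set.range (PrimeSpectrum.comap (Ideal.Quotient.mk (IsLocalRing.maximalIdeal A))) := by
    rw [range_comap_of_surjective _ _ Ideal.Quotient.mk_surjective, Ideal.mk_ker]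
    exact le_refl (IsLocalRing.maximalIdeal A)
  exact this

/-- Lifts to an etale scheme are determined by the closed fibre. -/
theorem hom_ext_finite {X : Scheme.{u}} (π : X ⟶ (Spec (CommRingCat.of A))) [UniversallyClosed π] {V W : Scheme.{u}} (ψ : V ⟶ W)
    [Etale ψ] (φ₁ φ₂ : X ⟶ V) (h : φ₁ ≫ ψ = φ₂ ≫ ψ)
    (h₀ : pullback.fst π (qcl A) ≫ φ₁ = pullback.fst π (qcl A) ≫ φ₂) : φ₁ = φ₂ := by
  obtain ⟨O, hO, hO'⟩ := exists_isOpen_agree ψ φ₁ φ₂ h
  have hT := top_of_closed_fibre π O (hO' _ _ h₀)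
  have := hO X (𝟙 X) (by rw [hT]; exact fun _ _ => trivial)
  simpa using this

variable [IsNoetherianRing A] [IsAdicComplete (IsLocalRing.maximalIdeal A) A]

/-- Morphisms into an etale scheme lift compatibly to all truncations. -/
theorem exists_levels {B : Type u} [CommRing B] (I : Ideal B) {V W : Scheme.{u}}
    (ψ : V ⟶ W) [Etale ψ] (hY : Spec (CommRingCat.of B) ⟶ W)
    (e : Spec (CommRingCat.of (B ⧸ I ^ 1)) ⟶ V) (he : e ≫ ψ = FormalHomLib.q I 1 ≫ hY) :
    ∃ u : ∀ n, Spec (CommRingCat.of (B ⧸ I ^ n)) ⟶ V,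
      (∀ n, FormalHomLib.tr I n ≫ u (n + 1) = u n) ∧ (∀ n, u n ≫ ψ = FormalHomLib.q I n ≫ hY) ∧ u 1 = e := by
  let t : ∀ k, Spec (CommRingCat.of (B ⧸ I ^ 1)) ⟶ Spec (CommRingCat.of (B ⧸ I ^ (k + 1))) := fun k =>
    Spec.map (CommRingCat.ofHom (Ideal.Quotient.factor (Ideal.pow_le_pow_right (I := I) (Nat.le_add_left 1 k))))
  have ht : ∀ k, t k ≫ FormalHomLib.q I (k + 1) = FormalHomLib.q I 1 := fun k => by
    rw [← Spec.map_comp, ← CommRingCat.ofHom_comp]; rfl
  have htc : ∀ k, IsClosedImmersion (t k) := fun k =>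
    IsClosedImmersion.spec_of_surjective _
      (Ideal.Quotient.factor_surjective (show I ^ (k + 1) ≤ I ^ 1 from Ideal.pow_le_pow_right (Nat.le_add_left 1 k)))
  have hts : ∀ k, Surjective (t k) := fun k => ⟨fun x => by
    have : x ∈ Set.range (PrimeSpectrum.comap
        (Ideal.Quotient.factor (show I ^ (k + 1) ≤ I ^ 1 from Ideal.pow_le_pow_right (Nat.le_add_left 1 k)))) := by
      rw [range_comap_of_surjective _ _ (Ideal.Quotient.factor_surjective _)]
      intro b hb
      obtain ⟨b, rfl⟩ := Ideal.Quotient.mk_surjective b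
      refine x.isPrime.mem_of_pow_mem (k + 1) ?_
      rw [SetLike.mem_coe, RingHom.mem_ker, Ideal.Quotient.factor_mk, Ideal.Quotient.eq_zero_iff_mem, pow_one] at hb
      rw [← map_pow, Ideal.Quotient.eq_zero_iff_mem.2 (Ideal.pow_mem_pow hb (k + 1))]
      exact x.asIdeal.zero_mem
    exact this⟩
  have hlev : ∀ k, ∃ φ : Spec (CommRingCat.of (B ⧸ I ^ (k + 1))) ⟶ V,
      φ ≫ ψ = FormalHomLib.q I (k + 1) ≫ hY ∧ t k ≫ φ = e := fun k => by
    haveI := htc k
    haveI := hts k
    exact TopInv.exists_desc ψ _ (t k) e (by rw [reassoc_of% ht k]; exact he)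
  choose φ hφ hφt using hlev
  have hφc : ∀ k, FormalHomLib.tr I (k + 1) ≫ φ (k + 1) = φ k := fun k => by
    haveI := hts k
    refine TopInv.eq_of_comp_eq ψ (t k) _ _ ?_ ?_
    · rw [Category.assoc, hφ, hφ, ← Category.assoc, FormalHomLib.tr_q]
    · rw [hφt, ← Category.assoc, show t k ≫ FormalHomLib.tr I (k + 1) = t (k + 1) by
        rw [← Spec.map_comp, ← CommRingCat.ofHom_comp]
        congr 2
        exact Ideal.Quotient.ringHom_ext (RingHom.ext fun _ => rfl), hφt]
  refine ⟨fun n => FormalHomLib.tr I n ≫ φ n, fun n => ?_, fun n => ?_, ?_⟩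
  · exact congrArg (FormalHomLib.tr I n ≫ ·) (hφc n)
  · show (FormalHomLib.tr I n ≫ φ n) ≫ ψ = _
    rw [Category.assoc, hφ, ← Category.assoc, FormalHomLib.tr_q]
  · refine (hφc 0).trans ?_
    rw [← hφt 0, show t 0 = 𝟙 _ by
      refine Eq.trans ?_ (Spec.map_id _)
      show Spec.map _ = Spec.map _
      congr 1
      exact CommRingCat.hom_ext (Ideal.Quotient.ringHom_ext (RingHom.ext fun _ => rfl)), Category.id_comp]

/-- Lifting to an etale scheme from the closed fibre, for finite schemes over a complete local ring. -/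
theorem exists_desc_spec (B : Type u) [CommRing B] [Algebra A B] [Module.Finite A B] {V W : Scheme.{u}}
    (ψ : V ⟶ W) [Etale ψ] (hY : Spec (CommRingCat.of B) ⟶ W)
    (e : Spec (CommRingCat.of (B ⧸ ((IsLocalRing.maximalIdeal A).map (algebraMap A B)) ^ 1)) ⟶ V)
    (he : e ≫ ψ = FormalHomLib.q ((IsLocalRing.maximalIdeal A).map (algebraMap A B)) 1 ≫ hY) :
    ∃ φ : Spec (CommRingCat.of B) ⟶ V, φ ≫ ψ = hY ∧
      FormalHomLib.q ((IsLocalRing.maximalIdeal A).map (algebraMap A B)) 1 ≫ φ = e := by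
  obtain ⟨u, hu, huψ, hu1⟩ := exists_levels _ ψ hY e he
  obtain ⟨F, hF⟩ := FormalHomLib.finite_hom_lift A B u hu
  refine ⟨F, FormalHomLib.finite_hom_ext A B _ _ fun n => ?_, (hF 1).trans hu1⟩
  rw [reassoc_of% hF n, huψ]

/-- Lifting to an etale scheme from the closed fibre, for schemes finite over the base. -/
theorem exists_desc_finite {X : Scheme.{u}} (π : X ⟶ (Spec (CommRingCat.of A))) [IsFinite π] {V W : Scheme.{u}}
    (ψ : V ⟶ W) [Etale ψ] (hY : X ⟶ W) (e : pullback π (qcl A) ⟶ V) (he : e ≫ ψ = pullback.fst π (qcl A) ≫ hY) :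
    ∃ φ : X ⟶ V, φ ≫ ψ = hY ∧ pullback.fst π (qcl A) ≫ φ = e := by
  haveI : IsClosedImmersion (qcl A) := IsClosedImmersion.spec_of_surjective _ Ideal.Quotient.mk_surjective
  haveI : IsAffine X := isAffine_of_isAffineHom π
  let B := Γ(X, ⊤)
  let β := Spec.preimage (X.isoSpec.inv ≫ π)
  letI : Algebra A B := β.hom.toAlgebra
  have hβ : Spec.map (CommRingCat.ofHom (algebraMap A B)) = X.isoSpec.inv ≫ π := Spec.map_preimage _
  haveI : Module.Finite A B := by
    have h : IsFinite (Spec.map (CommRingCat.ofHom (algebraMap A B))) := by rw [hβ]; infer_instance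
    rw [IsFinite.SpecMap_iff] at h
    exact RingHom.finite_algebraMap.1 h
  let I := (IsLocalRing.maximalIdeal A).map (algebraMap A B)
  let c := Spec.map (CommRingCat.ofHom (Ideal.Quotient.mk (I ^ 1)))
  -- the truncation maps to the closed fibre
  let ρ : A ⧸ IsLocalRing.maximalIdeal A →+* B ⧸ I ^ 1 :=
    Ideal.quotientMap _ (algebraMap A B) (by rw [pow_one]; exact Ideal.le_comap_map)
  let j : Spec (CommRingCat.of (B ⧸ I ^ 1)) ⟶ pullback π (qcl A) :=
    pullback.lift (c ≫ X.isoSpec.inv) (Spec.map (CommRingCat.ofHom ρ)) (by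
      rw [Category.assoc, ← hβ, ← Spec.map_comp, ← Spec.map_comp]; rfl)
  have hj : j ≫ pullback.fst π (qcl A) = c ≫ X.isoSpec.inv := pullback.lift_fst _ _ _
  obtain ⟨φ, hφ, hφe⟩ := exists_desc_spec B ψ (X.isoSpec.inv ≫ hY) (j ≫ e) (by
    rw [Category.assoc, he, reassoc_of% hj])
  -- the closed fibre maps to the truncation
  haveI : IsAffine (pullback π (qcl A)) := inferInstance
  let δ := Spec.preimage ((pullback π (qcl A)).isoSpec.inv ≫ pullback.fst π (qcl A) ≫ X.isoSpec.hom)
  have hker : I ^ 1 ≤ RingHom.ker δ.hom := by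
    rw [pow_one, Ideal.map_le_iff_le_comap]
    intro a ha
    let ε := Spec.preimage ((pullback π (qcl A)).isoSpec.inv ≫ pullback.snd π (qcl A))
    have h : CommRingCat.ofHom (algebraMap A B) ≫ δ =
        CommRingCat.ofHom (Ideal.Quotient.mk (IsLocalRing.maximalIdeal A)) ≫ ε := Spec.map_injective (by
      rw [Spec.map_comp, Spec.map_comp, Spec.map_preimage, Spec.map_preimage, hβ]
      simp only [Category.assoc, Iso.hom_inv_id_assoc, pullback.condition])
    show δ.hom (algebraMap A B a) = 0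
    have h' := congrArg (fun m => m.hom a) h
    refine h'.trans ?_
    show ε.hom (Ideal.Quotient.mk _ a) = 0
    rw [Ideal.Quotient.eq_zero_iff_mem.2 ha, map_zero]
  let l : pullback π (qcl A) ⟶ Spec (CommRingCat.of (B ⧸ I ^ 1)) :=
    (pullback π (qcl A)).isoSpec.hom ≫ Spec.map (CommRingCat.ofHom (Ideal.Quotient.lift (I ^ 1) δ.hom hker))
  have hl : l ≫ c = pullback.fst π (qcl A) ≫ X.isoSpec.hom := by
    rw [Category.assoc, ← Spec.map_comp]
    erw [show CommRingCat.ofHom (Ideal.Quotient.mk (I ^ 1)) ≫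
      CommRingCat.ofHom (Ideal.Quotient.lift (I ^ 1) δ.hom hker) = δ from CommRingCat.hom_ext (RingHom.ext fun _ => rfl)]
    rw [Spec.map_preimage, Iso.hom_inv_id_assoc]
  have hlj : l ≫ j = 𝟙 _ := by
    rw [← cancel_mono (pullback.fst π (qcl A)), Category.assoc, hj, reassoc_of% hl, Iso.hom_inv_id,
      Category.comp_id, Category.id_comp]
  refine ⟨X.isoSpec.hom ≫ φ, by rw [Category.assoc, hφ, Iso.hom_inv_id_assoc], ?_⟩
  rw [← reassoc_of% hl]
  show l ≫ c ≫ φ = e
  rw [show c ≫ φ = j ≫ e from hφe, reassoc_of% hlj]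

/-- Connected group schemes of finite type over a field are geometrically irreducible. -/
theorem geometricallyIrreducible_of_connected {S : Scheme.{u}} (G : Over S) [GrpObj G]
    (hconn : ∀ s : S, _root_.IsConnected (G.hom.base ⁻¹' {s})) : GeometricallyIrreducible G.hom := by
  rw [GeometricallyIrreducible.iff_geometricallyIrreducible_fiber]
  intro s
  let f := S.fromSpecResidueField s
  let K : Type u := S.residueField s
  let GF : Over (Spec (CommRingCat.of K)) := Red.bc f G
  haveI : ConnectedSpace GF.left := by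
    have h : ConnectedSpace ↥(G.hom.base ⁻¹' {s}) := Subtype.connectedSpace (hconn s)
    exact (G.hom.fiberHomeo s).symm.surjective.connectedSpace (G.hom.fiberHomeo s).symm.continuous
  haveI : IrreducibleSpace GF.left := S0348.result K GF
  have hr : Set.range (𝟙 GF.left : GF.left ⟶ GF.left) = Set.univ := Set.eq_univ_of_forall fun x => ⟨x, rfl⟩
  have h := S7517.result K GF GF.left (𝟙 _)
    (by rw [hr, irreducibleComponents_eq_singleton]; rfl) (by rw [hr]; trivial)
  rw [Category.id_comp] at h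
  exact h

variable {G : Over (Spec (CommRingCat.of A))} [GrpObj G] [Flat G.hom] [LocallyOfFinitePresentation G.hom]
  {M : Over (Spec (CommRingCat.of A))} [GrpObj M] [Smooth M.hom] [IsFinite M.hom] (hM : SGA3x.IsMultTypeFT M)
  (u₀ : Red.bc (qcl A) M ⟶ Red.bc (qcl A) G) [IsMonHom u₀]
  (hc₀ : ∀ (X : Over (Spec (CommRingCat.of (A ⧸ IsLocalRing.maximalIdeal A)))) (x : X ⟶ Red.bc (qcl A) M) (g : X ⟶ Red.bc (qcl A) G),
    (x ≫ u₀) * g = g * (x ≫ u₀))

/-- Finite smooth groups of multiplicative type over a local base are killed by an invertible integer. -/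
theorem exists_kill_local (M : Over (Spec (CommRingCat.of A))) [GrpObj M] [Smooth M.hom] [IsFinite M.hom]
    (hM : SGA3x.IsMultTypeFT M) :
    ∃ n : ℕ, (∀ s : (Spec (CommRingCat.of A)), (n : ((Spec (CommRingCat.of A))).residueField s) ≠ 0) ∧ ∀ (X : Over (Spec (CommRingCat.of A))) (x : X ⟶ M), x ^ n = 1 := by
  obtain ⟨n, W, hW, hn, hk⟩ := exists_kill M hM (IsLocalRing.closedPoint A : PrimeSpectrum A)
  have hall : ∀ s : (Spec (CommRingCat.of A)), s ∈ W := fun s => (FormalHomLib.specializes_closed s).mem_open W.2 hW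
  exact ⟨n, fun s => hn s (hall s), fun X x => hk X x fun s _ => hall s⟩

include hc₀

/-- A point finite over the base reducing to the homomorphism lies in the etale locus. -/
theorem range_subset_etLocus_finite (n : ℕ) (hn : ∀ s : (Spec (CommRingCat.of A)), (n : ((Spec (CommRingCat.of A))).residueField s) ≠ 0) {X : Over (Spec (CommRingCat.of A))}
    [UniversallyClosed X.hom] (x : X ⟶ G) (w : Red.bc (qcl A) X ⟶ Red.bc (qcl A) M)
    (hx : (Over.pullback (qcl A)).map x = w ≫ u₀) : Set.range x.left ⊆ etLocus G n := by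
  haveI : IsClosedImmersion (qcl A) := IsClosedImmersion.spec_of_surjective _ Ideal.Quotient.mk_surjective
  have h : x.left ⁻¹ᵁ etLocus G n = ⊤ := top_of_closed_fibre X.hom _ (by
    rintro _ ⟨p, rfl⟩
    show x.left (pullback.fst X.hom (qcl A) p) ∈ etLocus G n
    have h : pullback.fst X.hom (qcl A) ≫ x.left = w.left ≫ u₀.left ≫ pullback.fst G.hom (qcl A) := by
      rw [(FixedSmooth.isPullback_bc (qcl A) x).w, hx, Over.comp_left, Category.assoc]
    rw [show x.left (pullback.fst X.hom (qcl A) p) = pullback.fst G.hom (qcl A) (u₀.left (w.left p)) from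
      congrArg (fun f : _ ⟶ G.left => f p) h]
    exact mem_etLocus (qcl A) u₀ hc₀ n _ (hn _))
  rintro _ ⟨p, rfl⟩
  exact h.ge (Set.mem_univ p)

/-- Points finite over the base are determined by the closed fibre and a power. -/
theorem eq_of_pow_eq_finite (n : ℕ) (hn : ∀ s : (Spec (CommRingCat.of A)), (n : ((Spec (CommRingCat.of A))).residueField s) ≠ 0) {X : Over (Spec (CommRingCat.of A))}
    [UniversallyClosed X.hom] (x y : X ⟶ G) (w : Red.bc (qcl A) X ⟶ Red.bc (qcl A) M)
    (hx : (Over.pullback (qcl A)).map x = w ≫ u₀) (hy : (Over.pullback (qcl A)).map y = w ≫ u₀) (h : x ^ n = y ^ n) :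
    x = y := by
  haveI := etale_etLocus G n
  let x' := IsOpenImmersion.lift (etLocus G n).ι x.left (by
    rw [Scheme.Opens.range_ι]; exact range_subset_etLocus_finite u₀ hc₀ n hn x w hx)
  let y' := IsOpenImmersion.lift (etLocus G n).ι y.left (by
    rw [Scheme.Opens.range_ι]; exact range_subset_etLocus_finite u₀ hc₀ n hn y w hy)
  have hx' : x' ≫ (etLocus G n).ι = x.left := IsOpenImmersion.lift_fac _ _ _
  have hy' : y' ≫ (etLocus G n).ι = y.left := IsOpenImmersion.lift_fac _ _ _
  have key : x' = y' := by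
    refine hom_ext_finite X.hom ((etLocus G n).ι ≫ ((𝟙 G : G ⟶ G) ^ n).left) x' y' ?_ ?_
    · rw [reassoc_of% hx', reassoc_of% hy', ← Over.comp_left, ← Over.comp_left, comp_id_pow, comp_id_pow, h]
    · rw [← cancel_mono (etLocus G n).ι, Category.assoc, Category.assoc, hx', hy',
        (FixedSmooth.isPullback_bc (qcl A) x).w, hx, (FixedSmooth.isPullback_bc (qcl A) y).w, hy]
  exact Over.OverMorphism.ext (by rw [← hx', key, hy'])

include hM

/-- The homomorphism extending a central homomorphism of the closed fibres. -/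
theorem exists_lift_complete :
    ∃ u : M ⟶ G, IsMonHom u ∧ (Over.pullback (qcl A)).map u = u₀ ∧
      ∀ u' : M ⟶ G, IsMonHom u' → (Over.pullback (qcl A)).map u' = u₀ → u' = u := by
  obtain ⟨n, hn, hk⟩ := exists_kill_local M hM
  haveI : IsClosedImmersion (qcl A) := IsClosedImmersion.spec_of_surjective _ Ideal.Quotient.mk_surjective
  haveI := etale_etLocus G n
  have hk' : (𝟙 M : M ⟶ M) ^ n = 1 := hk M _
  have hd : u₀ ^ n = 1 := by
    rw [← Category.id_comp u₀, ← MonObj.pow_comp, ← map_id_pow (qcl A) M n, hk', map_one', MonObj.one_comp]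
  let e := (FixedSmooth.adjEquiv (qcl A) G (Red.bc (qcl A) M)).symm u₀
  have he : e ^ n = 1 := by rw [← map_pow, hd, map_one]
  have hel : e.left = u₀.left ≫ pullback.fst G.hom (qcl A) := by
    rw [← adjEquiv_left_fst (qcl A) G _ e, MulEquiv.apply_symm_apply]
  let e' := IsOpenImmersion.lift (etLocus G n).ι e.left (by
    rw [Scheme.Opens.range_ι]
    rintro _ ⟨p, rfl⟩
    rw [hel]
    exact mem_etLocus (qcl A) u₀ hc₀ n p (hn _))
  have he' : e' ≫ (etLocus G n).ι = e.left := IsOpenImmersion.lift_fac _ _ _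
  obtain ⟨φ, hφ, hqφ⟩ := exists_desc_finite M.hom ((etLocus G n).ι ≫ ((𝟙 G : G ⟶ G) ^ n).left)
    (1 : M ⟶ G).left e' (by
      rw [reassoc_of% he', ← Over.comp_left, comp_id_pow, he]
      exact congrArg CommaMorphism.left (MonObj.comp_one (cu (qcl A) M)).symm)
  let u : M ⟶ G := Over.homMk (φ ≫ (etLocus G n).ι) (by
    rw [Category.assoc, ← Over.w ((𝟙 G : G ⟶ G) ^ n), ← Category.assoc (etLocus G n).ι,
      ← Category.assoc φ, hφ, Over.w])
  have hum : (Over.pullback (qcl A)).map u = u₀ := by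
    apply (FixedSmooth.adjEquiv (qcl A) G (Red.bc (qcl A) M)).symm.injective
    rw [adjEquiv_symm_map]
    refine Over.OverMorphism.ext ?_
    show pullback.fst M.hom (qcl A) ≫ φ ≫ (etLocus G n).ι = e.left
    rw [reassoc_of% hqφ, he']
  have hun : u ^ n = 1 := by
    rw [← comp_id_pow]
    refine Over.OverMorphism.ext ?_
    rw [Over.comp_left]
    show (φ ≫ (etLocus G n).ι) ≫ _ = _
    rw [Category.assoc, hφ]
  have hpow : ∀ {X : Over (Spec (CommRingCat.of A))} (h : X ⟶ M), (h ≫ u) ^ n = 1 := fun {X} h => by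
    rw [← MonObj.comp_pow, hun, MonObj.comp_one]
  haveI : UniversallyClosed (M ⊗ M).hom := by
    show UniversallyClosed (pullback.fst M.hom M.hom ≫ M.hom)
    infer_instance
  have hcomm : (fst M M ≫ u) * (snd M M ≫ u) = (snd M M ≫ u) * (fst M M ≫ u) := by
    have hy : (Over.pullback (qcl A)).map ((snd M M ≫ u) * (fst M M ≫ u) * (snd M M ≫ u)⁻¹) =
        (Over.pullback (qcl A)).map (fst M M) ≫ u₀ := by
      rw [map_mul', map_mul', (Over.pullback (qcl A)).map_comp (fst M M) u, hum, ← hc₀, _root_.mul_assoc,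
        ← map_mul', mul_inv_cancel, map_one', _root_.mul_one]
    have h1 := eq_of_pow_eq_finite u₀ hc₀ n hn (fst M M ≫ u) _ _ (by rw [Functor.map_comp, hum]) hy
      (by rw [hpow, conj_pow, hpow, _root_.mul_one, mul_inv_cancel])
    nth_rewrite 1 [h1]
    rw [inv_mul_cancel_right]
  have hmul : (fst M M * snd M M) ≫ u = (fst M M ≫ u) * (snd M M ≫ u) :=
    eq_of_pow_eq_finite u₀ hc₀ n hn _ _ ((Over.pullback (qcl A)).map (fst M M * snd M M))
      (by rw [Functor.map_comp, hum])
      (by rw [map_mul', Functor.map_comp, Functor.map_comp, hum, map_mul', MonObj.mul_comp])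
      (by rw [hpow, Commute.mul_pow hcomm, hpow, hpow, _root_.mul_one])
  refine ⟨u, isMonHom_of_points u fun Y a b => ?_, hum, fun u' hu' hm' => ?_⟩
  · have h := congrArg (fun m => lift a b ≫ m) hmul
    simp only [MonObj.comp_mul, ← Category.assoc, lift_fst, lift_snd] at h
    exact h
  · haveI := hu'
    refine eq_of_pow_eq_finite u₀ hc₀ n hn u' u (𝟙 _) (by rw [hm', Category.id_comp])
      (by rw [hum, Category.id_comp]) ?_
    rw [hun, ← Category.id_comp u', ← MonObj.pow_comp, hk', MonObj.one_comp]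

/-- The extension is central when the fibres are connected. -/
theorem central_of_connected (hconn : ∀ s : (Spec (CommRingCat.of A)), _root_.IsConnected (G.hom.base ⁻¹' {s})) (u : M ⟶ G)
    [IsMonHom u] (hum : (Over.pullback (qcl A)).map u = u₀) (X : Over (Spec (CommRingCat.of A))) (h : X ⟶ M) (g : X ⟶ G) :
    (h ≫ u) * g = g * (h ≫ u) := by
  obtain ⟨n, hn, hk⟩ := exists_kill_local M hM
  haveI := etale_etLocus G n
  haveI := geometricallyIrreducible_of_connected G hconn
  have hpow : ∀ {X : Over (Spec (CommRingCat.of A))} (h : X ⟶ M), (h ≫ u) ^ n = 1 := fun {X} h => by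
    rw [← MonObj.pow_comp, hk, MonObj.one_comp]
  have hV : Set.range u.left ⊆ etLocus G n :=
    range_subset_etLocus_finite u₀ hc₀ n hn u (𝟙 _) (by rw [hum, Category.id_comp])
  let Y : Over (Spec (CommRingCat.of A)) := M ⊗ G
  let x : Y ⟶ G := fst M G ≫ u
  let y : Y ⟶ G := snd M G * (fst M G ≫ u) * (snd M G)⁻¹
  have hxy : x ^ n = y ^ n := by rw [hpow, conj_pow, hpow, _root_.mul_one, mul_inv_cancel]
  let ψ := (etLocus G n).ι ≫ ((𝟙 G : G ⟶ G) ^ n).left
  let U : Y.left.Opens := y.left ⁻¹ᵁ etLocus G n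
  have hxV : ∀ p, x.left p ∈ etLocus G n := fun p => hV ⟨(fst M G).left p, rfl⟩
  let x' : U.toScheme ⟶ (etLocus G n).toScheme :=
    IsOpenImmersion.lift (etLocus G n).ι (U.ι ≫ x.left) (by
      rw [Scheme.Opens.range_ι]; rintro _ ⟨p, rfl⟩; exact hxV _)
  let y' : U.toScheme ⟶ (etLocus G n).toScheme :=
    IsOpenImmersion.lift (etLocus G n).ι (U.ι ≫ y.left) (by
      rw [Scheme.Opens.range_ι]; rintro _ ⟨p, rfl⟩; exact p.2)
  have hx' : x' ≫ (etLocus G n).ι = U.ι ≫ x.left := IsOpenImmersion.lift_fac _ _ _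
  have hy' : y' ≫ (etLocus G n).ι = U.ι ≫ y.left := IsOpenImmersion.lift_fac _ _ _
  obtain ⟨O, hO, hO'⟩ := exists_isOpen_agree ψ x' y' (by
    rw [reassoc_of% hx', reassoc_of% hy', ← Over.comp_left, ← Over.comp_left, comp_id_pow, comp_id_pow, hxy])
  let P : Y.left.Opens := U.ι ''ᵁ O
  -- where the two points agree
  have crit : ∀ (Z : Over (Spec (CommRingCat.of A))) (p : Z ⟶ Y), p ≫ x = p ≫ y → Set.range p.left ⊆ P := by
    intro Z p hp
    have hl : p.left ≫ x.left = p.left ≫ y.left := congrArg CommaMorphism.left hp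
    have hpU : Set.range p.left ⊆ U := by
      rintro _ ⟨z, rfl⟩
      show y.left (p.left z) ∈ etLocus G n
      rw [show y.left (p.left z) = x.left (p.left z) from congrArg (fun f : _ ⟶ G.left => f z) hl.symm]
      exact hxV _
    let p' := IsOpenImmersion.lift U.ι p.left (by rw [Scheme.Opens.range_ι]; exact hpU)
    have hp' : p' ≫ U.ι = p.left := IsOpenImmersion.lift_fac _ _ _
    have h := hO' _ p' (by rw [← cancel_mono (etLocus G n).ι, Category.assoc, Category.assoc, hx', hy',
      reassoc_of% hp', reassoc_of% hp', hl])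
    rintro _ ⟨z, rfl⟩
    exact ⟨p' z, h ⟨z, rfl⟩, congrArg (fun f : _ ⟶ Y.left => f z) hp'⟩
  have crit' : ∀ (Z : Over (Spec (CommRingCat.of A))) (p : Z ⟶ Y), Set.range p.left ⊆ P → p ≫ x = p ≫ y := by
    intro Z p hp
    have hpU : Set.range p.left ⊆ U := fun z hz => by
      obtain ⟨v, -, rfl⟩ := hp hz
      exact v.2
    let p' := IsOpenImmersion.lift U.ι p.left (by rw [Scheme.Opens.range_ι]; exact hpU)
    have hp' : p' ≫ U.ι = p.left := IsOpenImmersion.lift_fac _ _ _
    have h := hO _ p' (by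
      rintro _ ⟨z, rfl⟩
      obtain ⟨v, hv, hvz⟩ := hp ⟨z, rfl⟩
      rwa [show p' z = v from U.ι.isOpenEmbedding.injective
        ((congrArg (fun f : _ ⟶ Y.left => f z) hp').trans hvz.symm)])
    apply Over.OverMorphism.ext
    show p.left ≫ x.left = p.left ≫ y.left
    rw [← hp', Category.assoc, Category.assoc, ← hx', ← hy', ← Category.assoc, h, Category.assoc]
  have hcomm : ∀ (Z : Over (Spec (CommRingCat.of A))) (a : Z ⟶ M) (g : Z ⟶ G), (a ≫ u) * g = g * (a ≫ u) ↔
      lift a g ≫ x = lift a g ≫ y := by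
    intro Z a g
    simp only [x, y, MonObj.comp_mul, GrpObj.comp_inv, lift_fst_assoc, lift_snd]
    rw [eq_mul_inv_iff_mul_eq]
  -- every point of a fibre commutes
  suffices hP : ∀ p : Y.left, p ∈ P by
    exact (hcomm X h g).2 (crit' X _ fun p _ => hP p)
  intro p
  let K : Type u := AlgebraicClosure (Y.left.residueField p)
  let pt : Spec (CommRingCat.of K) ⟶ Y.left :=
    Spec.map (CommRingCat.ofHom (algebraMap (Y.left.residueField p) K)) ≫ Y.left.fromSpecResidueField p
  let f := pt ≫ Y.hom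
  let Z : Over (Spec (CommRingCat.of A)) := Over.mk f
  let pZ : Z ⟶ Y := Over.homMk pt rfl
  let a := pZ ≫ fst M G
  suffices hg : (a ≫ u) * (pZ ≫ snd M G) = (pZ ≫ snd M G) * (a ≫ u) by
    have h1 := (hcomm Z a (pZ ≫ snd M G)).1 hg
    rw [show lift a (pZ ≫ snd M G) = pZ by rw [← comp_lift, lift_fst_snd, Category.comp_id]] at h1
    refine crit Z pZ h1 ⟨IsLocalRing.closedPoint K, ?_⟩
    show (Spec.map (CommRingCat.ofHom (algebraMap (Y.left.residueField p) K)) ≫ Y.left.fromSpecResidueField p) _ = p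
    rw [Scheme.Hom.comp_apply]
    exact Y.left.fromSpecResidueField_apply p _
  let GK : Over (Spec (CommRingCat.of K)) := Red.bc f G
  haveI : LocallyOfFiniteType GK.hom := inferInstanceAs (LocallyOfFiniteType (pullback.snd G.hom f))
  haveI : IrreducibleSpace GK.left :=
    GeometricallyIrreducible.geometrically_irreducibleSpace f _ _ (IsPullback.of_hasPullback G.hom f)
  haveI := LocallyOfFiniteType.jacobsonSpace GK.hom
  let i : Z ⟶ (Over.map f).obj (𝟙_ (Over (Spec (CommRingCat.of K)))) := Over.homMk (𝟙 _) (Category.id_comp _)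
  let τ : (Over.map f).obj GK ⟶ Y :=
    lift ((Over.homMk GK.hom rfl : (Over.map f).obj GK ⟶ Z) ≫ a) (cu f G)
  let Ω : GK.left.Opens := τ.left ⁻¹ᵁ P
  let E : (𝟙_ (Over (Spec (CommRingCat.of K))) ⟶ GK) → (Z ⟶ G) := fun o =>
    i ≫ (FixedSmooth.adjEquiv f G (𝟙_ _)).symm o
  have hE : ∀ o, lift a (E o) = i ≫ (Over.map f).map o ≫ τ := fun o => by
    have h1 : (FixedSmooth.adjEquiv f G (𝟙_ _)).symm o = (Over.map f).map o ≫ cu f G :=
      Over.OverMorphism.ext (by
        have h2 := adjEquiv_left_fst f G (𝟙_ _) ((FixedSmooth.adjEquiv f G (𝟙_ _)).symm o)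
        rw [MulEquiv.apply_symm_apply] at h2
        exact h2.symm)
    apply CartesianMonoidalCategory.hom_ext
    · simp only [τ, lift_fst, Category.assoc]
      rw [← Category.assoc i, ← Category.assoc]
      conv_lhs => rw [← Category.id_comp a]
      congr 1
      refine Over.OverMorphism.ext ?_
      show 𝟙 _ = (𝟙 _ ≫ o.left) ≫ GK.hom
      rw [Category.id_comp, Over.w o]
      rfl
    · simp only [τ, lift_snd, Category.assoc, E, h1]
  have hΩ : ∀ o : 𝟙_ (Over (Spec (CommRingCat.of K))) ⟶ GK, o.left (IsLocalRing.closedPoint K) ∈ Ω ↔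
      (a ≫ u) * E o = E o * (a ≫ u) := by
    intro o
    rw [hcomm]
    constructor
    · intro ho
      refine crit' Z _ ?_
      rw [hE]
      rintro _ ⟨z, rfl⟩
      rw [show z = IsLocalRing.closedPoint K from @Subsingleton.elim _ (inferInstanceAs (Subsingleton (PrimeSpectrum K))) _ _]
      exact ho
    · intro ho
      have h1 := crit Z _ ho ⟨IsLocalRing.closedPoint K, rfl⟩
      rw [hE] at h1
      exact h1
  have h1Ω : (1 : 𝟙_ (Over (Spec (CommRingCat.of K))) ⟶ GK).left (IsLocalRing.closedPoint K) ∈ Ω := by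
    rw [hΩ]
    simp only [E, map_one, MonObj.comp_one, _root_.one_mul, _root_.mul_one]
  let g₀ : 𝟙_ (Over (Spec (CommRingCat.of K))) ⟶ GK := FixedSmooth.adjEquiv f G (𝟙_ _)
    ((Over.homMk (𝟙 _) (Category.id_comp _) : (Over.map f).obj (𝟙_ (Over (Spec (CommRingCat.of K)))) ⟶ Z) ≫
      pZ ≫ snd M G)
  have hg₀ : E g₀ = pZ ≫ snd M G := by
    simp only [E, g₀, MulEquiv.symm_apply_apply]
    rw [← Category.assoc]
    conv_rhs => rw [← Category.id_comp (pZ ≫ snd M G)]
    congr 1
  let θ : GK ⟶ GK := (𝟙 GK)⁻¹ * (toUnit GK ≫ g₀)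
  have hθ : ∀ o : 𝟙_ (Over (Spec (CommRingCat.of K))) ⟶ GK, o ≫ θ = o⁻¹ * g₀ := fun o => by
    rw [MonObj.comp_mul, GrpObj.comp_inv, Category.comp_id, ← Category.assoc,
      toUnit_unique (o ≫ toUnit GK) (𝟙 _), Category.id_comp]
  let Ω' : GK.left.Opens := θ.left ⁻¹ᵁ Ω
  have hne : ((Ω : Set GK.left) ∩ Ω').Nonempty := by
    refine nonempty_preirreducible_inter Ω.2 Ω'.2 ⟨_, h1Ω⟩ ⟨g₀.left (IsLocalRing.closedPoint K), ?_⟩
    show θ.left (g₀.left (IsLocalRing.closedPoint K)) ∈ Ω
    rw [← Scheme.Hom.comp_apply, ← Over.comp_left, hθ, inv_mul_cancel]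
    exact h1Ω
  obtain ⟨v, ⟨hvΩ, hvΩ'⟩, hvc⟩ := nonempty_inter_closedPoints (X := GK.left) hne
    (Ω.2.inter Ω'.2).isLocallyClosed
  let o : 𝟙_ (Over (Spec (CommRingCat.of K))) ⟶ GK :=
    Over.homMk _ ((pointEquivClosedPoint GK.hom).symm ⟨v, hvc⟩).2
  have hov : o.left (IsLocalRing.closedPoint K) = v :=
    congrArg Subtype.val ((pointEquivClosedPoint GK.hom).apply_symm_apply ⟨v, hvc⟩)
  have h1 : (a ≫ u) * E o = E o * (a ≫ u) := (hΩ o).1 (by rw [hov]; exact hvΩ)
  have h2 : (a ≫ u) * E (o⁻¹ * g₀) = E (o⁻¹ * g₀) * (a ≫ u) := (hΩ _).1 (by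
    rw [← hθ, Over.comp_left]
    show θ.left (o.left _) ∈ Ω
    rw [hov]
    exact hvΩ')
  rw [← hg₀]
  have hmulE : E g₀ = E o * E (o⁻¹ * g₀) := by
    rw [← MonObj.comp_mul, ← map_mul, mul_inv_cancel_left]
  rw [hmulE, ← _root_.mul_assoc, h1, _root_.mul_assoc, h2, ← _root_.mul_assoc]

end Groth.Agent.CentralLift
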