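import Groth.Agent.EndoEtaleLib.Global
import Groth.Agent.FixedSmooth.Split
import Groth.Agent.FixedSmooth.Cover
import Groth.Agent.S16764
/-!
The power maps of a group scheme are etale at central points.
-/

set_option autoImplicit false
set_option backward.isDefEq.respectTransparency false
set_option backward.isDefEq.respectTransparency.types false
set_option linter.style.haveILetI false

universe u

open CategoryTheory CategoryTheory.Limits MonoidalCategory CartesianMonoidalCategory MonObj AlgebraicGeometry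

noncomputable section

namespace Groth.Agent.CentralLift

variable {S : Scheme.{u}}

/-- Base change commutes with power maps. -/
theorem map_id_pow {S' : Scheme.{u}} (g : S' ⟶ S) (G : Over S) [GrpObj G] (n : ℕ) :
    (Over.pullback g).map ((𝟙 G : G ⟶ G) ^ n) = (𝟙 (Red.bc g G) : Red.bc g G ⟶ Red.bc g G) ^ n := by
  refine ((Over.pullback g).homMonoidHom.map_pow (𝟙 G : G ⟶ G) n).trans ?_
  exact congrArg (· ^ n) ((Over.pullback g).map_id G)

/-- The counit description of the adjunction. -/
theorem adjEquiv_left_fst {S' : Scheme.{u}} (g : S' ⟶ S) (G : Over S) [GrpObj G] (X : Over S')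
    (c : (Over.map g).obj X ⟶ G) :
    (FixedSmooth.adjEquiv g G X c).left ≫ pullback.fst G.hom g = c.left := by
  obtain ⟨d, rfl⟩ := (FixedSmooth.adjEquiv g G X).symm.surjective c
  rw [MulEquiv.apply_symm_apply]
  refine Eq.symm ?_
  show (((Over.mapPullbackAdj g).homEquiv X G).symm d).left = _
  rw [Adjunction.homEquiv_counit]
  rfl

/-- Commutation of points is compatible with base change. -/
theorem commute_adjEquiv {S' : Scheme.{u}} (g : S' ⟶ S) (G : Over S) [GrpObj G] (X : Over S')
    (c : (Over.map g).obj X ⟶ G)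
    (hc : ∀ (Y : Over S) (p : Y ⟶ (Over.map g).obj X) (a : Y ⟶ G), (p ≫ c) * a = a * (p ≫ c))
    (Y : Over S') (p : Y ⟶ X) (a : Y ⟶ Red.bc g G) :
    (p ≫ FixedSmooth.adjEquiv g G X c) * a = a * (p ≫ FixedSmooth.adjEquiv g G X c) := by
  obtain ⟨a₀, rfl⟩ := (FixedSmooth.adjEquiv g G Y).surjective a
  have h : p ≫ FixedSmooth.adjEquiv g G X c = FixedSmooth.adjEquiv g G Y ((Over.map g).map p ≫ c) :=
    ((Over.mapPullbackAdj g).homEquiv_naturality_left p c).symm
  rw [h, ← map_mul, ← map_mul, hc]

/-- The power map is etale at a central point of a fibre which is rational over the residue field. -/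
theorem etAt_npow_fibre (G : Over S) [GrpObj G] [Flat G.hom] [LocallyOfFinitePresentation G.hom]
    (n : ℕ) (s : S) (hn : (n : S.residueField s) ≠ 0) (c : Over.mk (S.fromSpecResidueField s) ⟶ G)
    (hc : ∀ (Y : Over S) (p : Y ⟶ Over.mk (S.fromSpecResidueField s)) (a : Y ⟶ G),
      (p ≫ c) * a = a * (p ≫ c)) :
    Boot.EtAt ((𝟙 G : G ⟶ G) ^ n).left (c.left (IsLocalRing.closedPoint (S.residueField s))) := by
  let f := S.fromSpecResidueField s
  let K : Type u := S.residueField s
  let GF : Over (Spec (CommRingCat.of K)) := Red.bc f G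
  haveI : LocallyOfFiniteType GF.hom := inferInstanceAs (LocallyOfFiniteType (pullback.snd G.hom f))
  let i : (Over.map f).obj (𝟙_ (Over (Spec (S.residueField s)))) ⟶ Over.mk f :=
    Over.homMk (𝟙 _) rfl
  let g : 𝟙_ (Over (Spec (CommRingCat.of K))) ⟶ GF :=
    FixedSmooth.adjEquiv f G (𝟙_ _) (i ≫ c)
  have hg : ∀ (X : Over (Spec (CommRingCat.of K))) (x : X ⟶ GF),
      (toUnit X ≫ g) * x = x * (toUnit X ≫ g) := fun X x =>
    commute_adjEquiv f G _ (i ≫ c)
      (fun Y p a => by rw [← Category.assoc]; exact hc Y (p ≫ i) a) X (toUnit X) x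
  have h1 := EndoEtaleLib.etAt_npow_central GF n hn g hg
  have hgl : pullback.fst G.hom f (g.left (IsLocalRing.closedPoint K)) =
      c.left (IsLocalRing.closedPoint K) := by
    refine (Scheme.Hom.comp_apply g.left (pullback.fst G.hom f) _).symm.trans ?_
    rw [show g.left ≫ pullback.fst G.hom f = (i ≫ c).left from adjEquiv_left_fst f G _ _]
    rfl
  rw [← hgl]
  have key : ∀ (x' : G.hom.fiber s),
      Boot.EtAt (CohIII.fiberMapOver ((𝟙 G : G ⟶ G) ^ n).left G.hom G.hom (Over.w _) s) x' →
      Boot.EtAt ((𝟙 G : G ⟶ G) ^ n).left (G.hom.fiberι s x') := by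
    intro x'
    generalize hx : G.hom.fiberι s x' = x
    have hs : G.hom x = s := by
      rw [← hx]
      exact (Set.ext_iff.1 (G.hom.range_fiberι s) _).1 ⟨x', rfl⟩
    subst hs
    exact (S16764.result G.hom G.hom _ (Over.w _) x (Flat.stalkMap G.hom x) x' hx).2
  refine key _ ?_
  have hmap : CohIII.fiberMapOver ((𝟙 G : G ⟶ G) ^ n).left G.hom G.hom (Over.w _) s =
      ((𝟙 GF : GF ⟶ GF) ^ n).left := by
    refine Eq.trans ?_ (congrArg CommaMorphism.left (map_id_pow f G n))
    apply pullback.hom_ext
    · simp [CohIII.fiberMapOver, Over.pullback, f]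
    · simp [CohIII.fiberMapOver, Over.pullback, f]
  rw [hmap]
  exact h1

/-- The power map is etale at a central point with values in the residue field of a smooth scheme. -/
theorem etAt_npow_point (G : Over S) [GrpObj G] [Flat G.hom] [LocallyOfFinitePresentation G.hom]
    (n : ℕ) {T : Scheme.{u}} (h : T ⟶ S) [Smooth h] (z : T) (hn : (n : T.residueField z) ≠ 0)
    (c : Over.mk (T.fromSpecResidueField z ≫ h) ⟶ G)
    (hc : ∀ (Y : Over S) (p : Y ⟶ Over.mk (T.fromSpecResidueField z ≫ h)) (a : Y ⟶ G),
      (p ≫ c) * a = a * (p ≫ c)) :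
    Boot.EtAt ((𝟙 G : G ⟶ G) ^ n).left (c.left (IsLocalRing.closedPoint (T.residueField z))) := by
  let GT := Red.bc h G
  haveI : Flat GT.hom := inferInstanceAs (Flat (pullback.snd G.hom h))
  haveI : LocallyOfFinitePresentation GT.hom :=
    inferInstanceAs (LocallyOfFinitePresentation (pullback.snd G.hom h))
  let c' : Over.mk (T.fromSpecResidueField z) ⟶ GT := FixedSmooth.adjEquiv h G (Over.mk (T.fromSpecResidueField z)) c
  have h1 := etAt_npow_fibre GT n z hn c' (commute_adjEquiv h G (Over.mk (T.fromSpecResidueField z)) c hc)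
  have sq := FixedSmooth.isPullback_bc h ((𝟙 G : G ⟶ G) ^ n)
  rw [map_id_pow] at sq
  haveI : Smooth (pullback.fst G.hom h) := MorphismProperty.pullback_fst _ _ ‹Smooth h›
  have h2 := (Boot.etAt_iff_of_isPullback sq _).1 h1
  have e : pullback.fst G.hom h (c'.left (IsLocalRing.closedPoint (T.residueField z))) =
      c.left (IsLocalRing.closedPoint (T.residueField z)) := by
    refine (Scheme.Hom.comp_apply c'.left (pullback.fst G.hom h) _).symm.trans ?_
    rw [show c'.left ≫ pullback.fst G.hom h = c.left from adjEquiv_left_fst h G _ _]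
    rfl
  rwa [e] at h2

end Groth.Agent.CentralLift
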