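import Groth.Agent.MultType.Chart
import Mathlib
/-!
Finiteness of groups of multiplicative type lifts along nil thickenings.
-/

set_option autoImplicit false
set_option linter.style.haveILetI false
set_option maxHeartbeats 800000

universe u

open TensorProduct SGA3b
open scoped TensorProduct

namespace Groth.Agent.CentralLift

variable {R : Type u} [CommRing R] {A : Type u} [CommRing A] [HopfAlgebra R A]

theorem finite_chart (c : MultType.Chart R A) (J : Ideal R) (hJ : ∀ x ∈ J, IsNilpotent x)
    [Module.Finite (R ⧸ J) ((R ⧸ J) ⊗[R] A)] :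
    Module.Finite (Localization.Away c.f) (Localization.Away c.f ⊗[R] A) := by
  let L := Localization.Away c.f
  haveI : Module.Finite c.R' (MonoidAlgebra c.R' c.M) := by
    rcases subsingleton_or_nontrivial c.R' with h | h
    · haveI : Subsingleton (MonoidAlgebra c.R' c.M) := Module.subsingleton c.R' _
      infer_instance
    obtain ⟨m, hm⟩ := Ideal.exists_maximal c.R'
    letI := Ideal.Quotient.field m
    let K := c.R' ⧸ m
    letI : Algebra (R ⧸ J) K :=
      (Ideal.Quotient.lift J (algebraMap R K) fun a ha => (((hJ a ha).map (algebraMap R K)).eq_zero)).toAlgebra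
    haveI : IsScalarTower R (R ⧸ J) K := .of_algebraMap_eq fun _ => rfl
    haveI : Module.Finite K (K ⊗[R] A) :=
      Module.Finite.equiv (TensorProduct.AlgebraTensorModule.cancelBaseChange R (R ⧸ J) K K A)
    haveI : Module.Finite K (K ⊗[c.R'] MonoidAlgebra c.R' c.M) :=
      Module.Finite.equiv ((TensorProduct.AlgebraTensorModule.cancelBaseChange R c.R' K K A).symm.trans
        (TensorProduct.AlgebraTensorModule.congr (LinearEquiv.refl K K) c.e.toLinearEquiv))
    haveI : Finite c.M :=
      Module.Finite.finite_basis ((MonoidAlgebra.basis c.M c.R').baseChange K)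
    exact Module.Finite.of_basis (MonoidAlgebra.basis c.M c.R')
  haveI : Module.Finite c.R' (c.R' ⊗[L] (L ⊗[R] A)) :=
    Module.Finite.equiv
      ((TensorProduct.AlgebraTensorModule.cancelBaseChange R L c.R' c.R' A).trans c.e.toLinearEquiv).symm
  exact Module.Finite.of_finite_tensorProduct_of_faithfullyFlat c.R'

/-- A group of multiplicative type which is finite modulo a nil ideal is finite. -/
theorem finite_of_isMultType_mod (hA : IsMultType R A) (J : Ideal R) (hJ : ∀ x ∈ J, IsNilpotent x)
    [Module.Finite (R ⧸ J) ((R ⧸ J) ⊗[R] A)] : Module.Finite R A := by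
  obtain ⟨s, hs, hc⟩ := MultType.exists_charts hA
  refine Module.Finite.of_localizationSpan' s hs
    (Rₚ := fun g => Localization.Away g.1) (Mₚ := fun g => Localization.Away g.1 ⊗[R] A)
    (fun g => TensorProduct.mk R (Localization.Away g.1) A 1) fun g => ?_
  obtain ⟨c, hcf⟩ := hc g.1 g.2
  rw [← hcf]
  exact finite_chart c J hJ

end Groth.Agent.CentralLift
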