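import Groth.Agent.FixedSmooth.Split
import Groth.Agent.HomRep.Finite
import Groth.Agent.S4997
/-!
Finite etale groups of multiplicative type are killed by locally invertible integers.
-/

set_option autoImplicit false
set_option backward.isDefEq.respectTransparency false
set_option backward.isDefEq.respectTransparency.types false
set_option linter.style.haveILetI false
set_option maxHeartbeats 800000
set_option synthInstance.maxHeartbeats 400000

universe u

open CategoryTheory CategoryTheory.Limits MonoidalCategory CartesianMonoidalCategory MonObj AlgebraicGeometry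

noncomputable section

namespace Groth.Agent.CentralLift

open TorusField

variable {S : Scheme.{u}}

/-- A diagonalisable group with finite character group is killed by its order. -/
theorem diag_id_pow (K : Type u) [CommRing K] (M : Type) [AddCommGroup M] [Finite M] :
    (𝟙 (Red.diag K M) : Red.diag K M ⟶ Red.diag K M) ^ Nat.card M = 1 := by
  let e := FixedSmooth.diagPt K M (CommRingCat.of (MonoidAlgebra K (Multiplicative M)))
  apply e.symm.injective
  refine MonoidHom.ext fun m => ?_
  rw [map_pow, map_one, MonoidHom.pow_apply, MonoidHom.one_apply, ← map_pow, show Nat.card M = Nat.card (Multiplicative M) from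
    Nat.card_congr Multiplicative.ofAdd, pow_card_eq_one', map_one]

/-- The order of the character group of an etale diagonalisable group over a field is invertible. -/
theorem natCard_ne_zero (K : Type u) [Field K] (M : Type) [AddCommGroup M] [Finite M]
    [Etale (Red.diag K M).hom] : (Nat.card M : K) ≠ 0 := by
  let B := MonoidAlgebra K (Multiplicative M)
  have h : Etale (Spec.map (CommRingCat.ofHom (algebraMap K B))) := ‹Etale (Red.diag K M).hom›
  rw [HasRingHomProperty.Spec_iff (P := @Etale)] at h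
  haveI : Algebra.Etale K B := RingHom.etale_algebraMap.1 h
  haveI : IsReduced B := Algebra.FormallyUnramified.isReduced_of_field K B
  intro hn
  obtain ⟨p, hchar⟩ := CharP.exists K
  rw [CharP.cast_eq_zero_iff K p] at hn
  rcases CharP.char_is_prime_or_zero K p with hp | hp
  · haveI : Fact p.Prime := ⟨hp⟩
    haveI : Fintype (Multiplicative M) := Fintype.ofFinite _
    obtain ⟨m, hm⟩ := exists_prime_orderOf_dvd_card' (G := Multiplicative M) p (by
      rwa [show Nat.card (Multiplicative M) = Nat.card M from Nat.card_congr Multiplicative.toAdd])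
    haveI : CharP B p := charP_of_injective_algebraMap (algebraMap K B).injective p
    haveI : ExpChar B p := ExpChar.prime hp
    have h0 : (MonoidAlgebra.of K (Multiplicative M) m - 1) ^ p = 0 := by
      rw [sub_pow_expChar, ← map_pow, ← hm, pow_orderOf_eq_one, map_one, one_pow, sub_self]
    have h1 : MonoidAlgebra.of K (Multiplicative M) m = MonoidAlgebra.of K (Multiplicative M) 1 := by
      rw [map_one]
      exact sub_eq_zero.1 (IsReduced.eq_zero _ ⟨p, h0⟩)
    rw [MonoidAlgebra.of_injective h1, orderOf_one] at hm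
    exact hp.one_lt.ne hm
  · rw [hp, zero_dvd_iff] at hn
    exact absurd hn Nat.card_pos.ne'

/-- The points of a group where two endomorphisms agree form an open set when the group is etale. -/
theorem exists_isOpen_agree {X Y : Scheme.{u}} (hY : Y ⟶ S) [Etale hY] (φ ψ : X ⟶ Y) (h : φ ≫ hY = ψ ≫ hY) :
    ∃ O : X.Opens, (∀ (Z : Scheme.{u}) (a : Z ⟶ X), Set.range a ⊆ O → a ≫ φ = a ≫ ψ) ∧
      ∀ (Z : Scheme.{u}) (a : Z ⟶ X), a ≫ φ = a ≫ ψ → Set.range a ⊆ O := by
  let p := pullback.fst (pullback.lift φ ψ h) (pullback.diagonal hY)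
  haveI : IsOpenImmersion p := inferInstance
  have hp : p ≫ φ = p ≫ ψ := by
    have h1 := congrArg (· ≫ pullback.fst hY hY) (pullback.condition (f := pullback.lift φ ψ h) (g := pullback.diagonal hY))
    have h2 := congrArg (· ≫ pullback.snd hY hY) (pullback.condition (f := pullback.lift φ ψ h) (g := pullback.diagonal hY))
    simp only [Category.assoc, pullback.lift_fst, pullback.lift_snd, pullback.diagonal_fst,
      pullback.diagonal_snd, Category.comp_id] at h1 h2
    exact h1.trans h2.symm
  refine ⟨p.opensRange, fun Z a ha => ?_, fun Z a ha => ?_⟩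
  · rw [← IsOpenImmersion.lift_fac p a ha, Category.assoc, hp, ← Category.assoc]
  · let t : Z ⟶ pullback (pullback.lift φ ψ h) (pullback.diagonal hY) :=
      pullback.lift a (a ≫ φ) (by apply pullback.hom_ext <;> simp [ha])
    rintro _ ⟨z, rfl⟩
    exact ⟨t z, by rw [← Scheme.Hom.comp_apply, pullback.lift_fst]⟩

/-- A power which kills a group kills any point of it. -/
theorem pow_eq_one {C : Type*} [Category C] [CartesianMonoidalCategory C] {H X : C} [GrpObj H] {n : ℕ}
    (h : (𝟙 H : H ⟶ H) ^ n = 1) (x : X ⟶ H) : x ^ n = 1 := by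
  rw [← MonObj.comp_one x, ← h, MonObj.comp_pow, Category.comp_id]

/-- Being killed by an integer is invariant under isomorphisms of groups. -/
theorem id_pow_of_iso {A B : Over S} [GrpObj A] [GrpObj B] (e : Grp.mk A ≅ Grp.mk B) {n : ℕ}
    (h : (𝟙 B : B ⟶ B) ^ n = 1) : (𝟙 A : A ⟶ A) ^ n = 1 := by
  apply (FixedSmooth.grpEquiv e A).injective
  rw [map_pow, map_one]
  exact pow_eq_one h _

/-- Points over the new base of a group whose base change is killed by an integer. -/
theorem pow_eq_one_of_bc {S' : Scheme.{u}} (g : S' ⟶ S) (H : Over S) [GrpObj H] {n : ℕ}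
    (h : (𝟙 (Red.bc g H) : Red.bc g H ⟶ Red.bc g H) ^ n = 1) (X : Over S') (x : (Over.map g).obj X ⟶ H) :
    x ^ n = 1 := by
  apply (FixedSmooth.adjEquiv g H X).injective
  rw [map_pow, map_one]
  exact pow_eq_one h _

/-- An integer which is invertible at a point is invertible near it. -/
theorem exists_isOpen_natCast_ne_zero (S : Scheme.{u}) (n : ℕ) :
    ∃ D : S.Opens, ∀ s : S, s ∈ D ↔ (n : S.residueField s) ≠ 0 := by
  refine ⟨S.basicOpen (U := ⊤) (n : Γ(S, ⊤)), fun s => ?_⟩
  rw [Scheme.mem_basicOpen_top, map_natCast, ← IsLocalRing.residue_ne_zero_iff_isUnit, map_natCast]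

/-- Locally on the base, a finite etale group of multiplicative type is killed by an invertible integer. -/
theorem exists_kill (H : Over S) [GrpObj H] [Smooth H.hom] [IsFinite H.hom] (hH : SGA3x.IsMultTypeFT H) (s : S) :
    ∃ (n : ℕ) (W : S.Opens), s ∈ W ∧ (∀ s' ∈ W, (n : S.residueField s') ≠ 0) ∧
      ∀ (X : Over S) (x : X ⟶ H), Set.range X.hom ⊆ W → x ^ n = 1 := by
  haveI hE : Etale H.hom := (S4997.result H.hom).2 ⟨inferInstance, inferInstance⟩
  obtain ⟨S', f, -, hsurj, -, hloc⟩ := hH
  obtain ⟨s', rfl⟩ := hsurj.surj s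
  obtain ⟨U, hsU, M, _, -, ⟨e⟩⟩ := hloc s'
  let t : U.toScheme := ⟨s', hsU⟩
  let b := U.ι ≫ f
  haveI : IsFinite (Red.bc b H).hom := inferInstanceAs (IsFinite (pullback.snd H.hom b))
  haveI : Etale (Red.bc b H).hom := inferInstanceAs (Etale (pullback.snd H.hom b))
  haveI : IsFinite (Red.DS (U : Scheme.{u}) M).hom := FixedSmooth.hom_of_grpIso e.symm @IsFinite ‹_›
  haveI : Etale (Red.DS (U : Scheme.{u}) M).hom := FixedSmooth.hom_of_grpIso e.symm @Etale ‹_›
  haveI := HomRep.finite_of_isFinite_DS t M
  let K : Type u := (U : Scheme.{u}).residueField t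
  let c : Spec (CommRingCat.of K) ⟶ (U : Scheme.{u}) := (U : Scheme.{u}).fromSpecResidueField t
  haveI : Etale (Red.bc c (Red.DS (U : Scheme.{u}) M)).hom :=
    inferInstanceAs (Etale (pullback.snd (Red.DS (U : Scheme.{u}) M).hom c))
  let ed : Grp.mk (Red.bc c (Red.DS (U : Scheme.{u}) M)) ≅ specGrp K (MonoidAlgebra K (Multiplicative M)) :=
    MaxTorus.dsBc c M ≪≫ dsIso K M
  haveI : Etale (Red.diag K M).hom := FixedSmooth.hom_of_grpIso ed.symm @Etale ‹_›
  let n := Nat.card M
  have hnK : (n : K) ≠ 0 := natCard_ne_zero K M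
  have hnS : (n : S.residueField (f s')) ≠ 0 := by
    intro h0
    apply hnK
    have hb : (U.ι ≫ f) t = f s' := rfl
    have := congrArg ((U.ι ≫ f).residueFieldMap t).hom (show (n : S.residueField ((U.ι ≫ f) t)) = 0 from h0)
    rwa [map_natCast, map_zero] at this
  -- the group is killed over the point
  have hpt : ∀ (X : Over (Spec (CommRingCat.of K))) (x : (Over.map b).obj ((Over.map c).obj X) ⟶ H), x ^ n = 1 := by
    have h1 := id_pow_of_iso ed (diag_id_pow K M)
    have h2 := id_pow_of_iso (bcMapIso c e) h1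
    intro X x
    apply (FixedSmooth.adjEquiv b H ((Over.map c).obj X)).injective
    rw [map_pow, map_one]
    exact pow_eq_one_of_bc c (Red.bc b H) h2 X _
  let φ := ((𝟙 H : H ⟶ H) ^ n).left
  let ψ := (1 : H ⟶ H).left
  obtain ⟨O, hO, hO'⟩ := exists_isOpen_agree H.hom φ ψ ((Over.w _).trans (Over.w _).symm)
  have hfib : H.hom ⁻¹' {f s'} ⊆ O := by
    intro z hz
    let X : Over (Spec (CommRingCat.of K)) := Over.mk (pullback.snd H.hom (c ≫ b))
    let x : (Over.map b).obj ((Over.map c).obj X) ⟶ H := Over.homMk (pullback.fst H.hom (c ≫ b)) (by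
      show pullback.fst H.hom (c ≫ b) ≫ H.hom = (pullback.snd H.hom (c ≫ b) ≫ c) ≫ b
      rw [Category.assoc]; exact pullback.condition)
    have hx : x ≫ (𝟙 H : H ⟶ H) ^ n = x ≫ (1 : H ⟶ H) := by
      rw [MonObj.comp_pow, Category.comp_id, MonObj.comp_one]
      exact hpt X x
    refine hO' _ (pullback.fst H.hom (c ≫ b)) (congrArg CommaMorphism.left hx) ?_
    rw [Scheme.Pullback.range_fst]
    refine ⟨IsLocalRing.closedPoint K, ?_⟩
    rw [hz, Scheme.Hom.comp_apply]
    exact congrArg b ((U : Scheme.{u}).fromSpecResidueField_apply t _)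
  haveI : IsClosed (H.hom '' (O : Set H.left)ᶜ) := H.hom.isClosedMap _ O.isOpen.isClosed_compl
  obtain ⟨D, hD⟩ := exists_isOpen_natCast_ne_zero S n
  refine ⟨n, ⟨(H.hom '' (O : Set H.left)ᶜ)ᶜ, this.isOpen_compl⟩ ⊓ D, ⟨?_, (hD _).2 hnS⟩,
    fun s' hs' => (hD s').1 hs'.2, fun X x hX => ?_⟩
  · rintro ⟨z, hz, hzs⟩
    exact hz (hfib hzs)
  · have hr : Set.range x.left ⊆ O := by
      rintro _ ⟨p, rfl⟩
      by_contra hp
      refine (hX ⟨p, rfl⟩).1 ⟨x.left p, hp, ?_⟩
      rw [← Scheme.Hom.comp_apply, Over.w x]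
    have hx : x ≫ (𝟙 H : H ⟶ H) ^ n = x ≫ (1 : H ⟶ H) := Over.OverMorphism.ext (hO _ _ hr)
    rwa [MonObj.comp_pow, Category.comp_id, MonObj.comp_one] at hx

end Groth.Agent.CentralLift
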