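import Groth.Agent.CentralLift.Etale
import Groth.Agent.CentralLift.Kill
import Groth.Agent.TopInv.Basic
/-!
Central homomorphisms from finite smooth groups of multiplicative type lift uniquely along nil
thickenings.
-/

set_option autoImplicit false
set_option backward.isDefEq.respectTransparency false
set_option backward.isDefEq.respectTransparency.types false
set_option linter.style.haveILetI false
set_option maxHeartbeats 800000
set_option synthInstance.maxHeartbeats 400000

universe u

open CategoryTheory CategoryTheory.Limits MonoidalCategory CartesianMonoidalCategory MonObj AlgebraicGeometry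

noncomputable section

namespace Groth.Agent.CentralLift

variable {S S₀ : Scheme.{u}} (q : S₀ ⟶ S)

/-- The projection of the base change. -/
abbrev cu (X : Over S) : (Over.map q).obj (Red.bc q X) ⟶ X :=
  Over.homMk (pullback.fst X.hom q) pullback.condition

theorem cu_naturality {X Y : Over S} (x : X ⟶ Y) :
    (Over.map q).map ((Over.pullback q).map x) ≫ cu q Y = cu q X ≫ x :=
  Over.OverMorphism.ext (FixedSmooth.isPullback_bc q x).w.symm

theorem adjEquiv_symm_map {X G : Over S} [GrpObj G] (x : X ⟶ G) :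
    (FixedSmooth.adjEquiv q G (Red.bc q X)).symm ((Over.pullback q).map x) = cu q X ≫ x := by
  apply Over.OverMorphism.ext
  rw [← adjEquiv_left_fst q G (Red.bc q X)]
  erw [MulEquiv.apply_symm_apply]
  exact (FixedSmooth.isPullback_bc q x).w.symm

theorem map_mul' {X G : Over S} [GrpObj G] (x y : X ⟶ G) :
    (Over.pullback q).map (x * y) =
      ((Over.pullback q).map x : Red.bc q X ⟶ Red.bc q G) * (Over.pullback q).map y :=
  (Over.pullback q).homMonoidHom.map_mul x y

theorem map_one' {X G : Over S} [GrpObj G] :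
    (Over.pullback q).map (1 : X ⟶ G) = (1 : Red.bc q X ⟶ Red.bc q G) :=
  (Over.pullback q).homMonoidHom.map_one

/-- Commutation of points over the new base gives commutation of their transposes. -/
theorem commute_adjEquiv_symm (G : Over S) [GrpObj G] (X : Over S₀) (d : X ⟶ Red.bc q G)
    (hd : ∀ (Y : Over S₀) (p : Y ⟶ X) (a : Y ⟶ Red.bc q G), (p ≫ d) * a = a * (p ≫ d))
    (Y : Over S) (p : Y ⟶ (Over.map q).obj X) (a : Y ⟶ G) :
    (p ≫ (FixedSmooth.adjEquiv q G X).symm d) * a = a * (p ≫ (FixedSmooth.adjEquiv q G X).symm d) := by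
  let Y' : Over S₀ := Over.mk (p.left ≫ X.hom)
  let p' : Y' ⟶ X := Over.homMk p.left rfl
  have hY : ((Over.map q).obj Y').hom = Y.hom := (Category.assoc _ _ _).trans (Over.w p)
  let i : Y ⟶ (Over.map q).obj Y' := Over.homMk (𝟙 _) ((Category.id_comp _).trans hY)
  let i' : (Over.map q).obj Y' ⟶ Y := Over.homMk (𝟙 _) ((Category.id_comp _).trans hY.symm)
  have hp : p = i ≫ (Over.map q).map p' := Over.OverMorphism.ext (Category.id_comp _).symm
  have ha : a = i ≫ (i' ≫ a) := Over.OverMorphism.ext (by simp [i, i'])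
  rw [hp, ha, Category.assoc, ← MonObj.comp_mul, ← MonObj.comp_mul]
  congr 1
  have h : (Over.map q).map p' ≫ (FixedSmooth.adjEquiv q G X).symm d =
      (FixedSmooth.adjEquiv q G Y').symm (p' ≫ d) :=
    ((Over.mapPullbackAdj q).homEquiv_naturality_left_symm p' d).symm
  obtain ⟨a₀, ha₀⟩ := (FixedSmooth.adjEquiv q G Y').symm.surjective (i' ≫ a)
  rw [h, ← ha₀, ← map_mul, ← map_mul, hd]

/-- A morphism of groups, multiplicative on points, is a homomorphism. -/
theorem isMonHom_of_points {C : Type*} [Category C] [CartesianMonoidalCategory C] {H G : C} [GrpObj H] [GrpObj G]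
    (u : H ⟶ G) (h : ∀ (X : C) (x y : X ⟶ H), (x * y) ≫ u = (x ≫ u) * (y ≫ u)) : IsMonHom u := by
  refine ⟨?_, ?_⟩
  · have h1 := h (𝟙_ C) 1 1
    rw [_root_.one_mul, left_eq_mul] at h1
    rwa [Hom.one_def, Hom.one_def, toUnit_unique (toUnit (𝟙_ C)) (𝟙 _), Category.id_comp, Category.id_comp] at h1
  · have h1 := h (H ⊗ H) (fst H H) (snd H H)
    rw [Hom.mul_def, Hom.mul_def, lift_fst_snd, Category.id_comp] at h1
    rw [h1]
    congr 1
    ext <;> simp

variable (G : Over S) [GrpObj G]

/-- The open set where the power map is etale. -/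
abbrev etLocus (n : ℕ) : G.left.Opens :=
  ⟨{x | Boot.EtAt ((𝟙 G : G ⟶ G) ^ n).left x}, Boot.isOpen_setOf_etAt _⟩

theorem etale_etLocus (n : ℕ) : Etale ((etLocus G n).ι ≫ ((𝟙 G : G ⟶ G) ^ n).left) :=
  Boot.etale_of_forall_etAt _ fun v => (Boot.etAt_comp_iff _ _ v).2 v.2

theorem comp_id_pow {X : Over S} (x : X ⟶ G) (n : ℕ) : x ≫ (𝟙 G : G ⟶ G) ^ n = x ^ n := by
  rw [MonObj.comp_pow, Category.comp_id]

variable [Surjective q]

theorem surjective_cu (X : Over S) : Surjective (cu q X).left := by
  show Surjective (pullback.fst X.hom q)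
  infer_instance

variable {G}

/-- Points with the same power which agree on the reduction are equal, in the etale locus of the power map. -/
theorem eq_of_pow_eq {X : Over S} (n : ℕ) (x y : X ⟶ G) (hx : Set.range x.left ⊆ etLocus G n)
    (he : (Over.pullback q).map x = (Over.pullback q).map y) (hn : x ^ n = y ^ n) : x = y := by
  haveI := etale_etLocus G n
  haveI := surjective_cu q X
  have hc : cu q X ≫ x = cu q X ≫ y := by rw [← adjEquiv_symm_map, ← adjEquiv_symm_map, he]
  have hcl : (cu q X).left ≫ x.left = (cu q X).left ≫ y.left := congrArg CommaMorphism.left hc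
  have hy : Set.range y.left ⊆ etLocus G n := by
    rintro _ ⟨p, rfl⟩
    obtain ⟨p₀, rfl⟩ := (cu q X).left.surjective p
    rw [← Scheme.Hom.comp_apply, ← hcl, Scheme.Hom.comp_apply]
    exact hx ⟨_, rfl⟩
  let x' := IsOpenImmersion.lift (etLocus G n).ι x.left (by rw [Scheme.Opens.range_ι]; exact hx)
  let y' := IsOpenImmersion.lift (etLocus G n).ι y.left (by rw [Scheme.Opens.range_ι]; exact hy)
  have hx' : x' ≫ (etLocus G n).ι = x.left := IsOpenImmersion.lift_fac _ _ _
  have hy' : y' ≫ (etLocus G n).ι = y.left := IsOpenImmersion.lift_fac _ _ _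
  have key : x' = y' := by
    refine TopInv.eq_of_comp_eq ((etLocus G n).ι ≫ ((𝟙 G : G ⟶ G) ^ n).left) (cu q X).left x' y' ?_ ?_
    · rw [reassoc_of% hx', reassoc_of% hy', ← Over.comp_left, ← Over.comp_left, comp_id_pow, comp_id_pow, hn]
    · rw [← cancel_mono (etLocus G n).ι, Category.assoc, Category.assoc, hx', hy', hcl]
  exact Over.OverMorphism.ext (by rw [← hx', key, hy'])

variable [IsClosedImmersion q] [Flat G.hom] [LocallyOfFinitePresentation G.hom]
variable {H : Over S} [Smooth H.hom] (u₀ : Red.bc q H ⟶ Red.bc q G)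
  (hc₀ : ∀ (X : Over S₀) (x : X ⟶ Red.bc q H) (g : X ⟶ Red.bc q G), (x ≫ u₀) * g = g * (x ≫ u₀))

include hc₀

omit [Surjective q] in
/-- The given homomorphism lands in the etale loci of invertible powers. -/
theorem mem_etLocus (n : ℕ) (h₀ : (Red.bc q H).left)
    (hn : (n : S.residueField (H.hom (pullback.fst H.hom q h₀))) ≠ 0) :
    pullback.fst G.hom q (u₀.left h₀) ∈ etLocus G n := by
  generalize hz : pullback.fst H.hom q h₀ = z at hn
  let κ := H.left.residueField z
  let r := pullback.fst (H.left.fromSpecResidueField z) (pullback.fst H.hom q)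
  haveI : IsClosedImmersion r := inferInstance
  haveI : Surjective r := ⟨fun x => by
    have hx : x ∈ Set.range r := by
      rw [Scheme.Pullback.range_fst]
      exact ⟨h₀, hz.trans (H.left.fromSpecResidueField_apply z x).symm⟩
    exact hx⟩
  haveI : IsIso r := isIso_of_isClosedImmersion_of_surjective r
  let a : Spec κ ⟶ (Red.bc q H).left := inv r ≫ pullback.snd _ _
  have ha : a ≫ pullback.fst H.hom q = H.left.fromSpecResidueField z := by
    rw [Category.assoc, ← pullback.condition, IsIso.inv_hom_id_assoc]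
  let Xz : Over S₀ := Over.mk (a ≫ (Red.bc q H).hom)
  let av : Xz ⟶ Red.bc q H := Over.homMk a rfl
  let i : Over.mk (H.left.fromSpecResidueField z ≫ H.hom) ⟶ (Over.map q).obj Xz :=
    Over.homMk (𝟙 _) (by
      show 𝟙 _ ≫ (a ≫ pullback.snd H.hom q) ≫ q = H.left.fromSpecResidueField z ≫ H.hom
      rw [Category.id_comp, Category.assoc, ← pullback.condition, reassoc_of% ha])
  let c := i ≫ (FixedSmooth.adjEquiv q G Xz).symm (av ≫ u₀)
  have hnz : (n : κ) ≠ 0 := fun h => hn ((H.hom.residueFieldMap z).hom.injective (by rw [map_natCast, map_zero]; exact h))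
  have hE := etAt_npow_point G n H.hom z hnz c fun Y p g => by
    have h := commute_adjEquiv_symm q G Xz (av ≫ u₀)
      (fun Y p g => by rw [← Category.assoc]; exact hc₀ Y (p ≫ av) g) Y (p ≫ i) g
    rwa [Category.assoc] at h
  have hcl : c.left = a ≫ u₀.left ≫ pullback.fst G.hom q := by
    obtain ⟨d, hd⟩ : ∃ d, (FixedSmooth.adjEquiv q G Xz).symm (av ≫ u₀) = d := ⟨_, rfl⟩
    have h2 := adjEquiv_left_fst q G Xz d
    rw [← hd, MulEquiv.apply_symm_apply, Over.comp_left, Category.assoc] at h2
    show 𝟙 _ ≫ ((FixedSmooth.adjEquiv q G Xz).symm (av ≫ u₀)).left = _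
    rw [Category.id_comp, ← h2]
    rfl
  have hp : a (IsLocalRing.closedPoint κ) = h₀ := by
    apply (pullback.fst H.hom q).injective
    refine (Scheme.Hom.comp_apply a (pullback.fst H.hom q) _).symm.trans ?_
    rw [hz, ha]
    exact H.left.fromSpecResidueField_apply z _
  rw [hcl] at hE
  show Boot.EtAt _ _
  rw [← hp]
  exact hE

/-- A point which reduces to the given homomorphism lands in the etale loci of invertible powers. -/
theorem range_subset_etLocus {X : Over S} (x : X ⟶ G) (w : Red.bc q X ⟶ Red.bc q H)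
    (hw : (Over.pullback q).map x = w ≫ u₀) (n : ℕ) (hn : ∀ p : X.left, (n : S.residueField (X.hom p)) ≠ 0) :
    Set.range x.left ⊆ etLocus G n := by
  rintro _ ⟨p, rfl⟩
  obtain ⟨p₀, rfl⟩ := (pullback.fst X.hom q).surjective p
  have h1 : x.left (pullback.fst X.hom q p₀) = pullback.fst G.hom q (u₀.left (w.left p₀)) := by
    have h : pullback.fst X.hom q ≫ x.left = w.left ≫ u₀.left ≫ pullback.fst G.hom q := by
      rw [(FixedSmooth.isPullback_bc q x).w, hw, Over.comp_left, Category.assoc]
    exact congrArg (fun f : _ ⟶ G.left => f p₀) h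
  rw [h1]
  refine mem_etLocus q u₀ hc₀ n (w.left p₀) ?_
  have h2 : (w.left ≫ pullback.fst H.hom q) ≫ H.hom = pullback.fst X.hom q ≫ X.hom := by
    rw [Category.assoc, pullback.condition, pullback.condition]
    exact congrArg (· ≫ q) (Over.w w) |> (Category.assoc _ _ _).symm.trans
  rw [show H.hom (pullback.fst H.hom q (w.left p₀)) = X.hom (pullback.fst X.hom q p₀) from
    congrArg (fun f : _ ⟶ S => f p₀) h2]
  exact hn _

/-- Points which reduce to the given homomorphism are determined by their powers. -/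
theorem eq_of_local (n : S → ℕ) (W : S → S.Opens) (hsW : ∀ s, s ∈ W s)
    (hn : ∀ s, ∀ s' ∈ W s, (n s : S.residueField s') ≠ 0)
    {X : Over S} (x y : X ⟶ G) (w : Red.bc q X ⟶ Red.bc q H)
    (hx : (Over.pullback q).map x = w ≫ u₀) (hy : (Over.pullback q).map y = w ≫ u₀)
    (hp : ∀ (s : S) (X' : Over S) (j : X' ⟶ X), Set.range X'.hom ⊆ W s →
      (j ≫ x) ^ n s = (j ≫ y) ^ n s) :
    x = y := by
  refine Over.OverMorphism.ext ?_
  let V : X.left → X.left.Opens := fun p => X.hom ⁻¹ᵁ W (X.hom p)
  have hsup : ⨆ p, V p = ⊤ := eq_top_iff.2 fun p _ => TopologicalSpace.Opens.mem_iSup.2 ⟨p, hsW _⟩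
  refine (Scheme.openCoverOfIsOpenCover X.left V hsup).hom_ext _ _ fun p => ?_
  let j : Over.mk ((V p).ι ≫ X.hom) ⟶ X := Over.homMk (V p).ι rfl
  suffices h : j ≫ x = j ≫ y from congrArg CommaMorphism.left h
  have hr : Set.range (Over.mk ((V p).ι ≫ X.hom)).hom ⊆ W (X.hom p) := by
    rintro _ ⟨v, rfl⟩
    exact v.2
  have hjx : (Over.pullback q).map (j ≫ x) = ((Over.pullback q).map j ≫ w) ≫ u₀ := by
    rw [Functor.map_comp, hx, Category.assoc]
  refine eq_of_pow_eq q (n (X.hom p)) _ _
    (range_subset_etLocus q u₀ hc₀ _ _ hjx _ fun v => hn _ _ (hr ⟨v, rfl⟩)) ?_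
    (hp _ _ j hr)
  rw [Functor.map_comp, Functor.map_comp, hx, hy]

variable [GrpObj H] [IsFinite H.hom] [IsMonHom u₀] (hH : SGA3x.IsMultTypeFT H)

include hH

/-- The lift of a central homomorphism. -/
theorem exists_lift :
    ∃ u : H ⟶ G, IsMonHom u ∧ (Over.pullback q).map u = u₀ ∧
      (∀ (X : Over S) (x : X ⟶ H) (g : X ⟶ G), (x ≫ u) * g = g * (x ≫ u)) ∧
      ∀ u' : H ⟶ G, IsMonHom u' → (Over.pullback q).map u' = u₀ → u' = u := by
  choose n W hsW hn hk using exists_kill H hH
  let V : S → H.left.Opens := fun s => H.hom ⁻¹ᵁ W s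
  have hsup : ⨆ s, V s = ⊤ := eq_top_iff.2 fun p _ => TopologicalSpace.Opens.mem_iSup.2 ⟨H.hom p, hsW _⟩
  let X : S → Over S := fun s => Over.mk ((V s).ι ≫ H.hom)
  let j : ∀ s, X s ⟶ H := fun s => Over.homMk (V s).ι rfl
  have hr : ∀ s, Set.range (X s).hom ⊆ W s := by
    rintro s _ ⟨v, rfl⟩
    exact v.2
  have hloc : ∀ s, ∃ x : X s ⟶ G, (Over.pullback q).map x = (Over.pullback q).map (j s) ≫ u₀ ∧
      x ^ n s = 1 := by
    intro s
    haveI := etale_etLocus G (n s)
    let d := (Over.pullback q).map (j s) ≫ u₀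
    have hd : d ^ n s = 1 := by
      show ((Over.pullback q).map (j s) ≫ u₀) ^ n s = 1
      rw [← MonObj.pow_comp]
      have h1 := (Over.pullback q).homMonoidHom.map_pow (j s) (n s)
      rw [hk s _ (j s) (hr s)] at h1
      rw [show ((Over.pullback q).map (j s) : Red.bc q (X s) ⟶ Red.bc q H) ^ n s = 1 from
        h1.symm.trans (map_one' q), MonObj.one_comp]
    let e := (FixedSmooth.adjEquiv q G (Red.bc q (X s))).symm d
    have he : e ^ n s = 1 := by rw [← map_pow, hd, map_one]
    have hel : e.left = d.left ≫ pullback.fst G.hom q := by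
      rw [← adjEquiv_left_fst q G _ e, MulEquiv.apply_symm_apply]
    have her : Set.range e.left ⊆ etLocus G (n s) := by
      rintro _ ⟨p₀, rfl⟩
      rw [hel]
      refine mem_etLocus q u₀ hc₀ (n s) (((Over.pullback q).map (j s)).left p₀) ?_
      rw [show H.hom (pullback.fst H.hom q (((Over.pullback q).map (j s)).left p₀)) =
        (X s).hom (pullback.fst (X s).hom q p₀) from congrArg (fun f : _ ⟶ S => f p₀)
          ((congrArg (· ≫ H.hom) (FixedSmooth.isPullback_bc q (j s)).w.symm).trans
            ((Category.assoc _ _ _).trans (congrArg (pullback.fst (X s).hom q ≫ ·) (Over.w (j s)))))]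
      exact hn s _ (hr s ⟨_, rfl⟩)
    let e' := IsOpenImmersion.lift (etLocus G (n s)).ι e.left (by rw [Scheme.Opens.range_ι]; exact her)
    have he' : e' ≫ (etLocus G (n s)).ι = e.left := IsOpenImmersion.lift_fac _ _ _
    haveI : Surjective (cu q (X s)).left := surjective_cu q (X s)
    haveI : IsClosedImmersion (cu q (X s)).left := inferInstanceAs (IsClosedImmersion (pullback.fst (X s).hom q))
    obtain ⟨φ, hφ, hqφ⟩ := TopInv.exists_desc ((etLocus G (n s)).ι ≫ ((𝟙 G : G ⟶ G) ^ n s).left)
      (1 : X s ⟶ G).left (cu q (X s)).left e' (by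
        rw [reassoc_of% he', ← Over.comp_left, comp_id_pow, he, ← Over.comp_left, MonObj.comp_one])
    let x : X s ⟶ G := Over.homMk (φ ≫ (etLocus G (n s)).ι) (by
      rw [Category.assoc, ← Over.w ((𝟙 G : G ⟶ G) ^ n s), ← Category.assoc (etLocus G (n s)).ι,
        ← Category.assoc φ, hφ, Over.w])
    refine ⟨x, ?_, ?_⟩
    · apply (FixedSmooth.adjEquiv q G (Red.bc q (X s))).symm.injective
      rw [adjEquiv_symm_map]
      refine Over.OverMorphism.ext ?_
      show (cu q (X s)).left ≫ φ ≫ (etLocus G (n s)).ι = e.left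
      rw [reassoc_of% hqφ, he']
    · rw [← comp_id_pow]
      refine Over.OverMorphism.ext ?_
      rw [Over.comp_left]
      show (φ ≫ (etLocus G (n s)).ι) ≫ _ = _
      rw [Category.assoc, hφ]
  choose x hxm hxn using hloc
  let 𝒰 := Scheme.openCoverOfIsOpenCover H.left V hsup
  have hglue : ∀ s t, pullback.fst (V s).ι (V t).ι ≫ (x s).left = pullback.snd (V s).ι (V t).ι ≫ (x t).left := by
    intro s t
    let P : Over S := Over.mk (pullback.fst (V s).ι (V t).ι ≫ (X s).hom)
    let a : P ⟶ X s := Over.homMk (pullback.fst (V s).ι (V t).ι) rfl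
    let b : P ⟶ X t := Over.homMk (pullback.snd (V s).ι (V t).ι) (by
      show pullback.snd (V s).ι (V t).ι ≫ (V t).ι ≫ H.hom = pullback.fst (V s).ι (V t).ι ≫ (V s).ι ≫ H.hom
      rw [pullback.condition_assoc])
    have hab : a ≫ j s = b ≫ j t := Over.OverMorphism.ext pullback.condition
    suffices h : a ≫ x s = b ≫ x t from congrArg CommaMorphism.left h
    have hma : (Over.pullback q).map (a ≫ x s) = (Over.pullback q).map (a ≫ j s) ≫ u₀ := by
      rw [Functor.map_comp, hxm, Functor.map_comp, Category.assoc]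
    have hmb : (Over.pullback q).map (b ≫ x t) = (Over.pullback q).map (a ≫ j s) ≫ u₀ := by
      rw [hab, Functor.map_comp, hxm, Functor.map_comp, Category.assoc]
    refine eq_of_pow_eq q (n s * n t) _ _
      (range_subset_etLocus q u₀ hc₀ _ _ hma _ fun p => ?_) (hma.trans hmb.symm) ?_
    · rw [Nat.cast_mul]
      refine mul_ne_zero (hn s _ (hr s ⟨_, rfl⟩)) (hn t _ ?_)
      rw [← Over.w b]
      exact hr t ⟨_, rfl⟩
    · rw [← MonObj.comp_pow, ← MonObj.comp_pow, pow_mul, hxn, one_pow, MonObj.comp_one, pow_mul',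
        hxn, one_pow, MonObj.comp_one]
  let u : H ⟶ G := Over.homMk (𝒰.glueMorphisms (fun s => (x s).left) hglue) (by
    refine 𝒰.hom_ext _ _ fun s => ?_
    rw [Scheme.Cover.ι_glueMorphisms_assoc]
    exact Over.w (x s))
  have hju : ∀ s, j s ≫ u = x s := fun s => Over.OverMorphism.ext (𝒰.ι_glueMorphisms _ hglue s)
  have hum : (Over.pullback q).map u = u₀ := by
    refine Over.OverMorphism.ext (Scheme.Cover.hom_ext (𝒰.pullback₁ (pullback.fst H.hom q)) _ _ fun s => ?_)
    let l : pullback (pullback.fst H.hom q) (V s).ι ⟶ pullback (X s).hom q :=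
      pullback.lift (pullback.snd _ _) (pullback.fst _ _ ≫ pullback.snd H.hom q) (by
        show pullback.snd _ _ ≫ (V s).ι ≫ H.hom = _
        rw [← pullback.condition_assoc, pullback.condition, Category.assoc])
    have hl : pullback.fst (pullback.fst H.hom q) (V s).ι = l ≫ ((Over.pullback q).map (j s)).left := by
      apply pullback.hom_ext
      · rw [Category.assoc, ← (FixedSmooth.isPullback_bc q (j s)).w, pullback.lift_fst_assoc]
        exact pullback.condition
      · rw [Category.assoc, show ((Over.pullback q).map (j s)).left ≫ pullback.snd H.hom q = pullback.snd (X s).hom q from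
          Over.w ((Over.pullback q).map (j s)), pullback.lift_snd]
    show pullback.fst (pullback.fst H.hom q) (V s).ι ≫ _ = pullback.fst (pullback.fst H.hom q) (V s).ι ≫ _
    rw [hl, Category.assoc, Category.assoc, ← Over.comp_left, ← Over.comp_left, ← Functor.map_comp, hju, hxm]
  have hW : ∀ (s : S) (Y : Over S) (h : Y ⟶ H), Set.range Y.hom ⊆ W s → (h ≫ u) ^ n s = 1 := by
    intro s Y h hY
    obtain ⟨h', rfl⟩ : ∃ h' : Y ⟶ X s, h' ≫ j s = h := by
      have hsub : Set.range h.left ⊆ Set.range (V s).ι := by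
        rw [Scheme.Opens.range_ι]
        rintro _ ⟨p, rfl⟩
        show H.hom (h.left p) ∈ W s
        rw [← Scheme.Hom.comp_apply, Over.w h]
        exact hY ⟨p, rfl⟩
      exact ⟨Over.homMk (IsOpenImmersion.lift (V s).ι h.left hsub) (by
        show _ ≫ (V s).ι ≫ H.hom = _
        rw [IsOpenImmersion.lift_fac_assoc, Over.w]), Over.OverMorphism.ext (IsOpenImmersion.lift_fac _ _ _)⟩
    rw [Category.assoc, hju, ← MonObj.comp_pow, hxn, MonObj.comp_one]
  have hc : ∀ (Y : Over S) (h : Y ⟶ H) (g : Y ⟶ G), (h ≫ u) * g = g * (h ≫ u) := by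
    intro Y h g
    have hm : (Over.pullback q).map (h ≫ u) = (Over.pullback q).map h ≫ u₀ := by rw [Functor.map_comp, hum]
    have hy : (Over.pullback q).map (g * (h ≫ u) * g⁻¹) = (Over.pullback q).map h ≫ u₀ := by
      rw [map_mul', map_mul', hm, ← hc₀, _root_.mul_assoc, ← map_mul', mul_inv_cancel, map_one',
        _root_.mul_one]
    have h1 := eq_of_local q u₀ hc₀ n W hsW hn (h ≫ u) (g * (h ≫ u) * g⁻¹) _ hm hy fun s Y' k hY' => by
      rw [MonObj.comp_mul, MonObj.comp_mul, GrpObj.comp_inv, conj_pow, ← Category.assoc,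
        hW s Y' _ hY', _root_.mul_one, mul_inv_cancel]
    nth_rewrite 1 [h1]
    rw [inv_mul_cancel_right]
  refine ⟨u, isMonHom_of_points u fun Y a b => ?_, hum, hc, fun u' hu' hm' => ?_⟩
  · refine eq_of_local q u₀ hc₀ n W hsW hn _ _ ((Over.pullback q).map (a * b)) ?_ ?_ fun s Y' k hY' => ?_
    · rw [Functor.map_comp, hum]
    · rw [map_mul', Functor.map_comp, Functor.map_comp, hum, map_mul', MonObj.mul_comp]
    · rw [← Category.assoc, hW s Y' _ hY', MonObj.comp_mul, Commute.mul_pow, ← Category.assoc,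
        ← Category.assoc, hW s Y' _ hY', hW s Y' _ hY', _root_.mul_one]
      rw [← Category.assoc, ← Category.assoc]
      exact hc Y' (k ≫ a) ((k ≫ b) ≫ u)
  · haveI := hu'
    refine eq_of_local q u₀ hc₀ n W hsW hn u' u (𝟙 _) (by rw [hm', Category.id_comp])
      (by rw [hum, Category.id_comp]) fun s Y' k hY' => ?_
    rw [hW s Y' k hY', ← MonObj.pow_comp, hk s Y' k hY', MonObj.one_comp]

end Groth.Agent.CentralLift
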