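import Groth.Agent.CentralLift.Main
import Groth.Agent.CentralLift.FiniteLift
import Groth.Agent.SmoothHomLift.Bridge
import Groth.Agent.HopfKer.Global
import Groth.Agent.MultGeomLib.Main
import Groth.Agent.FlatLocus.SmoothFibres
import Groth.Agent.S2973
import Groth.Agent.S2979
/-!
Central finite smooth subgroups of multiplicative type lift uniquely along nil thickenings.
-/

set_option autoImplicit false
set_option backward.isDefEq.respectTransparency false
set_option backward.isDefEq.respectTransparency.types false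
set_option linter.style.haveILetI false
set_option maxHeartbeats 800000
set_option synthInstance.maxHeartbeats 400000

universe u

open CategoryTheory CategoryTheory.Limits MonoidalCategory CartesianMonoidalCategory MonObj AlgebraicGeometry
open scoped TensorProduct

noncomputable section

namespace Groth.Agent.CentralLift

variable {S S₀ : Scheme.{u}} (q : S₀ ⟶ S)

/-- A flat group scheme with etale reduction along a nil thickening is etale. -/
theorem etale_of_etale_reduction [IsClosedImmersion q] [Surjective q] (H : Over S) [Flat H.hom]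
    [LocallyOfFinitePresentation H.hom] [Etale (Red.bc q H).hom] : Etale H.hom := by
  haveI : FormallyUnramified H.hom := FlatLocus.formallyUnramified_of_fibres H.hom fun s => by
    let r := pullback.fst (S.fromSpecResidueField s) q
    haveI : IsIso r := isIso_of_isClosedImmersion_of_surjective r
    let a : Spec (S.residueField s) ⟶ S₀ := inv r ≫ pullback.snd _ _
    have ha : a ≫ q = S.fromSpecResidueField s := by
      rw [Category.assoc, ← pullback.condition, IsIso.inv_hom_id_assoc]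
    have h : FormallyUnramified (pullback.snd H.hom (a ≫ q)) := by
      haveI : Etale (pullback.snd H.hom q) := ‹Etale (Red.bc q H).hom›
      rw [← pullbackLeftPullbackSndIso_inv_snd_snd H.hom q a]
      infer_instance
    rw [ha] at h
    exact h
  exact Etale.of_formallyUnramified_of_flat H.hom

/-- Morphisms into etale schemes over the base are determined by their reductions. -/
theorem map_injective [IsClosedImmersion q] [Surjective q] {X Y : Over S} [Etale Y.hom]
    {a b : X ⟶ Y} (h : (Over.pullback q).map a = (Over.pullback q).map b) : a = b :=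
  (TopInv.bijective_pullback_map q Y X).injective h

/-- The subgroup part of the lifting theorem, for a given lift of the group. -/
theorem exists_subgroup [IsClosedImmersion q] [Surjective q] (G : Over S) [GrpObj G] [Flat G.hom]
    [LocallyOfFinitePresentation G.hom] (H : Over S) [GrpObj H] [Smooth H.hom] [IsFinite H.hom]
    (hH : SGA3x.IsMultTypeFT H) (H₀ : Over S₀) [GrpObj H₀] [Etale H₀.hom] (j₀ : H₀ ⟶ Red.bc q G) [IsMonHom j₀]
    [Mono j₀]
    (hc₀ : ∀ (X : Over S₀) (x : X ⟶ H₀) (g : X ⟶ Red.bc q G), (x ≫ j₀) * g = g * (x ≫ j₀))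
    (φg : Grp.mk (Red.bc q H) ≅ Grp.mk H₀) :
    ∃ j : H ⟶ G, IsMonHom j ∧ Mono j ∧
      (∃ e : Red.bc q H ≅ H₀, e.hom ≫ j₀ = (Over.pullback q).map j) ∧
      (∀ (X : Over S) (x : X ⟶ H) (g : X ⟶ G), (x ≫ j) * g = g * (x ≫ j)) ∧
      ∀ (H' : Over S) [GrpObj H'] (j' : H' ⟶ G) [IsMonHom j'] [Mono j'], SGA3x.IsMultTypeFT H' →
        (∃ e' : Red.bc q H' ≅ H₀, e'.hom ≫ j₀ = (Over.pullback q).map j') →
        ∃ φ : H' ≅ H, φ.hom ≫ j = j' := by
  haveI : Etale H.hom := (S4997.result H.hom).2 ⟨inferInstance, inferInstance⟩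
  haveI : IsMonHom φg.hom.hom.hom := φg.hom.hom.isMonHom_hom
  let e : Red.bc q H ≅ H₀ := (Grp.forget _).mapIso φg
  let u₀ : Red.bc q H ⟶ Red.bc q G := φg.hom.hom.hom ≫ j₀
  haveI : Mono u₀ := mono_comp' (inferInstanceAs (Mono e.hom)) inferInstance
  obtain ⟨u, hu, hum, huc, huu⟩ := exists_lift q u₀
    (fun X x g => by rw [← Category.assoc]; exact hc₀ X _ g) hH
  refine ⟨u, hu, ⟨fun {X} a b hab => map_injective q ((cancel_mono u₀).1 ?_)⟩, ⟨e, hum.symm⟩, huc, ?_⟩
  · rw [← hum, ← Functor.map_comp, ← Functor.map_comp, hab]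
  intro H' _ j' _ _ hH' ⟨e', he'⟩
  haveI : Flat H'.hom := MultKer.flat_hom_of_isMultTypeFT hH'
  haveI : LocallyOfFinitePresentation H'.hom := FixedSmooth.locallyOfFinitePresentation_of_isMultTypeFT hH'
  haveI : Etale (Red.bc q H').hom := by
    haveI : IsIso e'.hom.left := ((Over.forget _).mapIso e').isIso_hom
    rw [← Over.w e'.hom]
    infer_instance
  haveI := etale_of_etale_reduction q H'
  obtain ⟨φ, hφ⟩ := (TopInv.bijective_pullback_map q H H').surjective (e'.hom ≫ e.inv)
  obtain ⟨ψ, hψ⟩ := (TopInv.bijective_pullback_map q H' H).surjective (e.hom ≫ e'.inv)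
  dsimp only at hφ hψ
  have h1 : φ ≫ ψ = 𝟙 H' := map_injective q (by
    rw [Functor.map_comp, hφ, hψ, CategoryTheory.Functor.map_id]; simp)
  have h2 : ψ ≫ φ = 𝟙 H := map_injective q (by
    rw [Functor.map_comp, hφ, hψ, CategoryTheory.Functor.map_id]; simp)
  have hψj : (Over.pullback q).map (ψ ≫ j') = u₀ := by
    rw [Functor.map_comp, hψ, ← he', Category.assoc, e'.inv_hom_id_assoc]
    rfl
  haveI : Mono ((Over.pullback q).map j') := he' ▸ inferInstance
  have hmul : ∀ (X : Over S) (a b : X ⟶ H), (a * b) ≫ ψ = (a ≫ ψ) * (b ≫ ψ) := fun X a b =>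
    map_injective q ((cancel_mono ((Over.pullback q).map j')).1 (by
      rw [← Functor.map_comp, ← Functor.map_comp, MonObj.mul_comp (a ≫ ψ) (b ≫ ψ) j',
        Category.assoc, Category.assoc, Category.assoc, map_mul',
        (Over.pullback q).map_comp (a * b), (Over.pullback q).map_comp a, (Over.pullback q).map_comp b, hψj, map_mul', MonObj.mul_comp]))
  haveI := isMonHom_of_points ψ hmul
  have hu' : ψ ≫ j' = u := huu (ψ ≫ j') ⟨by rw [reassoc_of% IsMonHom.one_hom ψ, IsMonHom.one_hom],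
    by rw [reassoc_of% IsMonHom.mul_hom ψ, IsMonHom.mul_hom, MonoidalCategory.tensorHom_comp_tensorHom_assoc]⟩ hψj
  exact ⟨⟨φ, ψ, h1, h2⟩, by rw [← hu', reassoc_of% h1]⟩

/-- Central finite smooth subgroups of multiplicative type lift uniquely. -/
theorem exists_subgroup_affine {A : Type u} [CommRing A] (J : Ideal A) (hJ : ∀ x ∈ J, IsNilpotent x)
    [IsClosedImmersion (Spec.map (CommRingCat.ofHom (Ideal.Quotient.mk J)))] [Surjective (Spec.map (CommRingCat.ofHom (Ideal.Quotient.mk J)))]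
    (G : Over (Spec (CommRingCat.of A))) [GrpObj G] [Flat G.hom]
    [LocallyOfFinitePresentation G.hom] (H₀ : Over (Spec (CommRingCat.of (A ⧸ J)))) [GrpObj H₀]
    (j₀ : H₀ ⟶ Red.bc (Spec.map (CommRingCat.ofHom (Ideal.Quotient.mk J))) G) [IsMonHom j₀]
    [Mono j₀] [Smooth H₀.hom] [IsFinite H₀.hom] (hm₀ : SGA3x.IsMultTypeFT H₀)
    (hc₀ : ∀ (X : Over _) (x : X ⟶ H₀) (g : X ⟶ Red.bc (Spec.map (CommRingCat.ofHom (Ideal.Quotient.mk J))) G),
      (x ≫ j₀) * g = g * (x ≫ j₀)) :
    ∃ (H : Over (Spec (CommRingCat.of A))) (_ : GrpObj H) (j : H ⟶ G), IsMonHom j ∧ Mono j ∧ SGA3x.IsMultTypeFT H ∧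
      (∃ e : Red.bc (Spec.map (CommRingCat.ofHom (Ideal.Quotient.mk J))) H ≅ H₀, e.hom ≫ j₀ = (Over.pullback (Spec.map (CommRingCat.ofHom (Ideal.Quotient.mk J)))).map j) ∧
      (∀ (X : Over _) (x : X ⟶ H) (g : X ⟶ G), (x ≫ j) * g = g * (x ≫ j)) ∧
      ∀ (H' : Over (Spec (CommRingCat.of A))) [GrpObj H'] (j' : H' ⟶ G) [IsMonHom j'] [Mono j'], SGA3x.IsMultTypeFT H' →
        (∃ e' : Red.bc (Spec.map (CommRingCat.ofHom (Ideal.Quotient.mk J))) H' ≅ H₀,
          e'.hom ≫ j₀ = (Over.pullback (Spec.map (CommRingCat.ofHom (Ideal.Quotient.mk J)))).map j') →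
        ∃ φ : H' ≅ H, φ.hom ≫ j = j' := by
  let R₀ := A ⧸ J
  let q : Spec (CommRingCat.of R₀) ⟶ Spec (CommRingCat.of A) := Spec.map (CommRingCat.ofHom (Ideal.Quotient.mk J))
  haveI : Etale H₀.hom := (S4997.result H₀.hom).2 ⟨inferInstance, inferInstance⟩
  obtain ⟨A₀, _, _, ⟨e₀⟩⟩ := MultBridge.exists_hopf R₀ H₀
  obtain ⟨hft, hA₀⟩ := SmoothHomLift.isMultType_of_FT hm₀ e₀
  obtain ⟨A₁, _, _, hA, ⟨e₁⟩⟩ := S2979.result A J hJ A₀ (S2973.result R₀ A₀ hft hA₀)
  have hM := SmoothHomLift.isMultType_of_qi hA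
  haveI : Module.Finite R₀ A₀ := by
    have h := MultBridge.prop_algebraMap e₀ @IsFinite inferInstance
    rw [IsFinite.SpecMap_iff] at h
    exact RingHom.finite_algebraMap.1 h
  let ea : R₀ ⊗[A] A₁ ≃ₐ[R₀] A₀ := e₁
  haveI : Module.Finite R₀ (R₀ ⊗[A] A₁) := Module.Finite.equiv ea.symm.toLinearEquiv
  haveI : Module.Finite A A₁ := finite_of_isMultType_mod hM J hJ
  have hft₁ : Algebra.FiniteType A A₁ := inferInstance
  let H := (Spec (CommRingCat.of A₁)).asOver (Spec (CommRingCat.of A))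
  let φg : Grp.mk (Red.bc q H) ≅ Grp.mk H₀ :=
    TorusField.bcSpecIso A R₀ A₁ ≪≫ (TorusField.specIso e₁).symm ≪≫ e₀
  have hFT : SGA3x.IsMultTypeFT H := HopfKer.isMultTypeFT_spec hM hft₁
  haveI : IsFinite H.hom := (IsFinite.SpecMap_iff _).2 (RingHom.finite_algebraMap.2 inferInstance)
  haveI : Flat H.hom := MultKer.flat_hom_of_isMultTypeFT hFT
  haveI : LocallyOfFinitePresentation H.hom := FixedSmooth.locallyOfFinitePresentation_of_isMultTypeFT hFT
  haveI : Etale (Red.bc q H).hom := FixedSmooth.hom_of_grpIso φg @Etale inferInstance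
  haveI : Etale H.hom := etale_of_etale_reduction q H
  obtain ⟨j, h1, h2, h3, h4, h5⟩ := exists_subgroup q G H hFT H₀ j₀ hc₀ φg
  exact ⟨H, inferInstance, j, h1, h2, hFT, h3, h4, h5⟩

end Groth.Agent.CentralLift
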